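import Mathlib
import Cfsg.Agent.Lib.PairPSolvable.Core
import Cfsg.Agent.Lib.Transfer.AbelianSylow
import Cfsg.Agent.Lib.Transfer.ThompsonComplement

/-!
# The automizer of an elementary abelian Sylow 2-subgroup of order 8 of a simple group
-/

set_option autoImplicit false

namespace CfsgLib.EightSylow

variable {V : Type*} [Group V] [Finite V]

/-- The common fixed points. -/
def fixedPts (Q : Subgroup (MulAut V)) : Subgroup V where
  carrier := {v | ∀ a ∈ Q, a v = v}
  one_mem' := fun a _ => map_one a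
  mul_mem' := fun hu hv a ha => by rw [map_mul, hu a ha, hv a ha]
  inv_mem' := fun hu a ha => by rw [map_inv, hu a ha]

theorem mem_fixedPts {Q : Subgroup (MulAut V)} {v : V} : v ∈ fixedPts Q ↔ ∀ a ∈ Q, a v = v := Iff.rfl

theorem card_fixedPts {p : ℕ} [Fact p.Prime] (hV : Nat.card V = 8) (Q : Subgroup (MulAut V))
    (hQ : IsPGroup p Q) :
    8 ≡ Nat.card (fixedPts Q) [MOD p] ∧ Nat.card (fixedPts Q) ∈ ({1, 2, 4, 8} : Finset ℕ) ∧
      (Nat.card (fixedPts Q) = 8 → Q = ⊥) := by
  refine ⟨?_, ?_, fun h => ?_⟩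
  · have h := hQ.card_modEq_card_fixedPoints V
    rw [hV] at h
    have e : Nat.card (MulAction.fixedPoints Q V) = Nat.card (fixedPts Q) :=
      Nat.card_congr (Equiv.subtypeEquivRight fun v =>
        ⟨fun h a ha => h ⟨a, ha⟩, fun h a => h a.1 a.2⟩)
    rwa [e] at h
  · have h : Nat.card (fixedPts Q) ∈ Nat.divisors 8 :=
      Nat.mem_divisors.mpr ⟨hV ▸ Subgroup.card_subgroup_dvd_card _, by norm_num⟩
    rwa [show Nat.divisors 8 = {1, 2, 4, 8} by decide] at h
  · rw [eq_bot_iff]
    intro a ha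
    have htop : fixedPts Q = ⊤ := Subgroup.eq_top_of_card_eq _ (h.trans hV.symm)
    exact Subgroup.mem_bot.mpr (MulEquiv.ext fun v =>
      (show v ∈ fixedPts Q from htop ▸ Subgroup.mem_top v) a ha)

theorem card_fixedPts_three (hV : Nat.card V = 8) {Q : Subgroup (MulAut V)} (hQ : IsPGroup 3 Q)
    (hne : Q ≠ ⊥) : Nat.card (fixedPts Q) = 2 := by
  haveI : Fact (Nat.Prime 3) := ⟨Nat.prime_three⟩
  obtain ⟨h1, h2, h3⟩ := card_fixedPts hV Q hQ
  simp only [Finset.mem_insert, Finset.mem_singleton] at h2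
  rcases h2 with e | e | e | e
  · rw [e] at h1; exact absurd h1 (by decide)
  · exact e
  · rw [e] at h1; exact absurd h1 (by decide)
  · exact absurd (h3 e) hne

theorem orderOf_ne_five (hV : Nat.card V = 8) (a : MulAut V) : orderOf a ≠ 5 := by
  haveI : Fact (Nat.Prime 5) := ⟨by norm_num⟩
  intro ha
  obtain ⟨h1, h2, h3⟩ := card_fixedPts hV (Subgroup.zpowers a)
    (IsPGroup.of_card (n := 1) (by rw [Nat.card_zpowers, ha, pow_one]))
  simp only [Finset.mem_insert, Finset.mem_singleton] at h2
  rcases h2 with e | e | e | e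
  · rw [e] at h1; exact absurd h1 (by decide)
  · rw [e] at h1; exact absurd h1 (by decide)
  · rw [e] at h1; exact absurd h1 (by decide)
  · have := h3 e
    rw [Subgroup.zpowers_eq_bot] at this
    rw [this, orderOf_one] at ha
    norm_num at ha

theorem card_three_group_le (hV : Nat.card V = 8) {Q : Subgroup (MulAut V)} (hQ : IsPGroup 3 Q) :
    Nat.card Q ∣ 3 := by
  classical
  haveI : Fact (Nat.Prime 3) := ⟨Nat.prime_three⟩
  obtain ⟨k, hk⟩ := IsPGroup.iff_card.mp hQ
  rcases Nat.lt_or_ge k 2 with hk2 | hk2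
  · rw [hk]
    interval_cases k <;> norm_num
  exfalso
  have hne : Q ≠ ⊥ := fun h => by
    rw [h, Subgroup.card_bot] at hk
    have : 3 ^ 2 ≤ 3 ^ k := Nat.pow_le_pow_right (by norm_num) hk2
    omega
  have h2 := card_fixedPts_three hV hQ hne
  obtain ⟨v, hv⟩ : ∃ v, v ∉ fixedPts Q := by
    by_contra h
    push Not at h
    have : fixedPts Q = ⊤ := eq_top_iff.mpr fun v _ => h v
    rw [this, Subgroup.card_top, hV] at h2
    norm_num at h2
  set R : Subgroup (MulAut V) := (MulAction.stabilizer Q v).map Q.subtype with hR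
  have hRle : R ≤ Q := Subgroup.map_subtype_le _
  have hRv : v ∈ fixedPts R := fun a ha => by
    obtain ⟨b, hb, rfl⟩ := Subgroup.mem_map.mp ha
    exact hb
  have hfle : fixedPts Q ≤ fixedPts R := fun u hu a ha => hu a (hRle ha)
  have hlt : fixedPts Q < fixedPts R := lt_of_le_of_ne hfle fun e => hv (e ▸ hRv)
  have hRbot : R = ⊥ := by
    by_contra hRne
    have h3 := card_fixedPts_three hV (hQ.to_le hRle) hRne
    exact absurd (Subgroup.eq_of_le_of_card_ge hfle (by rw [h2, h3])) hlt.ne
  have hst : Nat.card (MulAction.stabilizer Q v) = 1 := by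
    rw [← Subgroup.card_map_of_injective Q.subtype_injective, ← hR, hRbot, Subgroup.card_bot]
  have horb := MulAction.index_stabilizer Q v
  have hle : (MulAction.orbit Q v).ncard ≤ 8 := hV ▸ Set.ncard_le_card _
  have hcard := (MulAction.stabilizer Q v).card_mul_index
  rw [hst, one_mul, horb, hk] at hcard
  have : 3 ^ 2 ≤ 3 ^ k := Nat.pow_le_pow_right (by norm_num) hk2
  omega

/-- An odd group of automorphisms has order `1`, `3`, `7` or `21`. -/
theorem card_odd_auts (hV : Nat.card V = 8) (A : Subgroup (MulAut V)) (hodd : ¬ 2 ∣ Nat.card A) :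
    Nat.card A = 1 ∨ Nat.card A = 3 ∨ Nat.card A = 7 ∨ Nat.card A = 21 := by
  classical
  have hdvd : Nat.card A ∣ 5040 := by
    haveI : Fintype V := Fintype.ofFinite V
    let f : A →* Equiv.Perm {v : V // v ≠ 1} :=
      { toFun := fun a => Equiv.Perm.subtypePerm a.1.toEquiv (fun v => by simp)
        map_one' := rfl
        map_mul' := fun a b => Equiv.ext fun v => rfl }
    have hf : Function.Injective f := by
      intro a b e
      refine Subtype.ext (MulEquiv.ext fun v => ?_)
      by_cases hv : v = 1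
      · rw [hv, map_one, map_one]
      · exact congrArg Subtype.val (Equiv.congr_fun e ⟨v, hv⟩)
    have h := Subgroup.card_dvd_of_injective f hf
    have h7 : Nat.card {v : V // v ≠ 1} = 7 := by
      rw [Nat.card_eq_fintype_card, Fintype.card_subtype_compl, Fintype.card_subtype_eq,
        ← Nat.card_eq_fintype_card, hV]
    rw [Nat.card_perm, h7] at h
    exact h
  haveI : Fact (Nat.Prime 3) := ⟨Nat.prime_three⟩
  haveI : Fact (Nat.Prime 5) := ⟨by norm_num⟩
  have h9 : ¬ 9 ∣ Nat.card A := fun h => by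
    obtain ⟨Q, hQ⟩ := Sylow.exists_subgroup_card_pow_prime (G := A) 3 (n := 2) (by norm_num [h])
    have := card_three_group_le hV ((IsPGroup.of_card hQ).map A.subtype)
    rw [Subgroup.card_map_of_injective A.subtype_injective, hQ] at this
    norm_num at this
  have h5 : ¬ 5 ∣ Nat.card A := fun h => by
    obtain ⟨a, ha⟩ := exists_prime_orderOf_dvd_card' 5 h
    exact orderOf_ne_five hV a.1 (by rw [Subgroup.orderOf_coe, ha])
  have h315 : Nat.card A ∣ 315 :=
    ((Nat.prime_two.coprime_iff_not_dvd.mpr hodd).symm.pow_right 4).dvd_of_dvd_mul_left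
      (show Nat.card A ∣ 2 ^ 4 * 315 from hdvd)
  have hm : Nat.card A ∈ Nat.divisors 315 := Nat.mem_divisors.mpr ⟨h315, by norm_num⟩
  rw [show Nat.divisors 315 = {1, 3, 5, 7, 9, 15, 21, 35, 45, 63, 105, 315} by decide +kernel] at hm
  simp only [Finset.mem_insert, Finset.mem_singleton] at hm
  omega

theorem transitive_of_seven (hV : Nat.card V = 8) (A : Subgroup (MulAut V)) (h7 : 7 ∣ Nat.card A)
    {u v : V} (hu : u ≠ 1) (hv : v ≠ 1) : ∃ a ∈ A, a u = v := by
  classical
  haveI : Fact (Nat.Prime 7) := ⟨by norm_num⟩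
  obtain ⟨a, ha⟩ := exists_prime_orderOf_dvd_card' 7 h7
  set Q := Subgroup.zpowers a.1 with hQdef
  have hao : orderOf a.1 = 7 := by rw [Subgroup.orderOf_coe, ha]
  have hQc : Nat.card Q = 7 := by rw [Nat.card_zpowers, hao]
  have hQ : IsPGroup 7 Q := IsPGroup.of_card (n := 1) (by rw [hQc, pow_one])
  obtain ⟨h1, h2, h3⟩ := card_fixedPts hV Q hQ
  have hfix : Nat.card (fixedPts Q) = 1 := by
    simp only [Finset.mem_insert, Finset.mem_singleton] at h2
    rcases h2 with e | e | e | e
    · exact e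
    · rw [e] at h1; exact absurd h1 (by decide)
    · rw [e] at h1; exact absurd h1 (by decide)
    · rw [h3 e, Subgroup.card_bot] at hQc
      norm_num at hQc
  have hnofix : ∀ w : V, w ≠ 1 → MulAction.orbit Q w = {x | x ≠ 1} := by
    intro w hw
    have hsub : MulAction.orbit Q w ⊆ {x | x ≠ 1} := by
      rintro _ ⟨b, rfl⟩
      exact fun e => hw ((EmbeddingLike.map_eq_one_iff (f := b.1)).mp e)
    refine Set.eq_of_subset_of_ncard_le hsub ?_ (Set.toFinite _)
    have h7 : ({x : V | x ≠ 1}).ncard = 7 := by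
      rw [show ({x : V | x ≠ 1}) = (Set.univ \ {1} : Set V) by ext; simp,
        Set.ncard_sdiff_singleton_of_mem (Set.mem_univ _), Set.ncard_univ, hV]
    rw [h7]
    have hd : (MulAction.orbit Q w).ncard ∣ 7 := by
      rw [← MulAction.index_stabilizer Q w]
      exact hQc ▸ Subgroup.index_dvd_card _
    rcases (Nat.dvd_prime (by norm_num)).mp hd with e | e
    · exfalso
      obtain ⟨z, hz⟩ := Set.ncard_eq_one.mp e
      have hwz : w = z := by
        have := MulAction.mem_orbit_self (M := Q) w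
        rwa [hz] at this
      have hwfix : w ∈ fixedPts Q := fun b hb => by
        have : b w ∈ MulAction.orbit Q w := ⟨⟨b, hb⟩, rfl⟩
        rw [hz] at this
        exact this.trans hwz.symm
      exact hw (Subgroup.mem_bot.mp ((Subgroup.eq_bot_of_card_eq _ hfix) ▸ hwfix))
    · exact e.ge
  obtain ⟨b, hb⟩ : v ∈ MulAction.orbit Q u := by rw [hnofix u hu]; exact hv
  exact ⟨b.1, Subgroup.zpowers_le.mpr a.2 b.2, hb⟩

/-! ### In the simple group -/

variable {G : Type*} [Group G] [Finite G]

open Cfsg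

/-- The action of the normalizer on a Sylow subgroup. -/
noncomputable def act (S : Sylow 2 G) :
    ↥(Subgroup.normalizer ((S : Subgroup G) : Set G)) →* MulAut ↥(S : Subgroup G) :=
  (S : Subgroup G).normalizerMonoidHom

theorem act_apply (S : Sylow 2 G) (n : ↥(Subgroup.normalizer ((S : Subgroup G) : Set G)))
    (s : ↥(S : Subgroup G)) : ((act S n s : ↥(S : Subgroup G)) : G) = n.1 * s.1 * n.1⁻¹ := rfl

theorem act_ker (S : Sylow 2 G) : (act S).ker =
    (Subgroup.centralizer ((S : Subgroup G) : Set G)).subgroupOf _ :=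
  Subgroup.normalizerMonoidHom_ker _

theorem card_act_range (S : Sylow 2 G) : Nat.card (act S).range =
    (Subgroup.centralizer ((S : Subgroup G) : Set G)).relIndex
      (Subgroup.normalizer ((S : Subgroup G) : Set G)) := by
  rw [← Subgroup.index_ker, act_ker]
  rfl

/-- The automizer is 7, or else 21 with one class of involutions. -/
theorem automizer_cases [IsSimpleGroup G] (hG : ¬ IsMulCommutative G) (S : Sylow 2 G)
    (hS : IsElementaryAbelian 2 (S : Subgroup G)) (hS8 : Nat.card ↥(S : Subgroup G) = 8) :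
    Nat.card (act S).range = 7 ∨ (Nat.card (act S).range = 21 ∧
      ∀ s ∈ (S : Subgroup G), ∀ u ∈ (S : Subgroup G), s ≠ 1 → u ≠ 1 →
        ∃ g ∈ Subgroup.normalizer ((S : Subgroup G) : Set G), g * s * g⁻¹ = u) := by
  haveI : Fact (Nat.Prime 2) := ⟨Nat.prime_two⟩
  haveI : Fact (Nat.Prime 3) := ⟨Nat.prime_three⟩
  have hab := hS.1
  have hodd : ¬ 2 ∣ Nat.card (act S).range := by
    rw [card_act_range]
    intro h
    refine S.not_dvd_index (h.trans ((dvd_trans ?_ (Subgroup.index_dvd_of_le
      (show (S : Subgroup G) ≤ Subgroup.centralizer ((S : Subgroup G) : Set G) from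
        fun x hx y hy => Subtype.ext_iff.mp (hab.is_comm.comm ⟨y, hy⟩ ⟨x, hx⟩))))))
    exact Subgroup.relIndex_dvd_index_of_le (Subgroup.centralizer_le_normalizer _)
  have hperf : commutator G = ⊤ := by
    rcases (show (commutator G).Normal from inferInstance).eq_bot_or_eq_top with h | h
    · exact absurd ((commutator_eq_bot_iff G).mp h) hG
    · exact h
  have hnofix : ∀ s : ↥(S : Subgroup G), s ≠ 1 → ¬ ∀ a ∈ (act S).range, a s = s := by
    intro s hs hall
    refine hs (Subtype.ext (Transfer.eq_one_of_abelian_sylow S hab s.2 (fun n hn => ?_) (hperf ▸ Subgroup.mem_top _)))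
    have := congrArg Subtype.val (hall _ ⟨⟨n, hn⟩, rfl⟩)
    rw [act_apply] at this
    exact mul_inv_eq_iff_eq_mul.mp this
  rcases card_odd_auts hS8 (act S).range hodd with e | e | e | e
  · exfalso
    obtain ⟨s, hs⟩ : ∃ s : ↥(S : Subgroup G), s ≠ 1 := by
      haveI : Nontrivial ↥(S : Subgroup G) := Finite.one_lt_card_iff_nontrivial.mp (by rw [hS8]; norm_num)
      exact exists_ne 1
    refine hnofix s hs fun a ha => ?_
    rw [Subgroup.eq_bot_of_card_eq _ e, Subgroup.mem_bot] at ha
    rw [ha]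
    rfl
  · exfalso
    have hQ : IsPGroup 3 (act S).range := IsPGroup.of_card (n := 1) (by rw [e, pow_one])
    have h2 := card_fixedPts_three hS8 hQ (fun h => by rw [h, Subgroup.card_bot] at e; norm_num at e)
    haveI : Nontrivial (fixedPts (act S).range) := Finite.one_lt_card_iff_nontrivial.mp (by rw [h2]; norm_num)
    obtain ⟨s, hs⟩ := exists_ne (1 : fixedPts (act S).range)
    exact hnofix s.1 (fun h => hs (Subtype.ext h)) s.2
  · exact Or.inl e
  · refine Or.inr ⟨e, fun s hs u hu hs1 hu1 => ?_⟩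
    obtain ⟨a, ⟨n, rfl⟩, ha⟩ := transitive_of_seven hS8 (act S).range (e ▸ ⟨3, rfl⟩)
      (u := ⟨s, hs⟩) (v := ⟨u, hu⟩) (fun h => hs1 (congrArg Subtype.val h)) (fun h => hu1 (congrArg Subtype.val h))
    exact ⟨n.1, n.2, congrArg Subtype.val ha⟩

end CfsgLib.EightSylow
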