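import Mathlib

/-!
# Three integer vectors with Gram matrix `4, 2, 2`

The rows of the involution section of a principal 2-block with elementary abelian defect group of
order 8 and inertial quotient of order 21, together with the degrees and the vanishing of the class
sum coefficients at the elements `t h`, admit only the linear characters.
-/

set_option autoImplicit false

namespace CfsgLib.EightSylow

variable {ι : Type*} [DecidableEq ι]

/-- The numerical hypotheses; `d` are the three vectors, `n` the degrees, `o` the trivial one. -/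
structure Rows (S : Finset ι) (o : ι) (d : Fin 3 → ι → ℤ) (n : ι → ℕ) : Prop where
  mem : o ∈ S
  pos : ∀ χ ∈ S, 0 < n χ
  one : ∀ χ ∈ S, n χ = 1 → χ = o
  triv : n o = 1
  triv0 : d 0 o = 1
  triv1 : d 1 o = 0
  triv2 : d 2 o = 0
  deg : ∀ i, ∑ χ ∈ S, (n χ : ℤ) * d i χ = 0
  gram : ∀ i j, ∑ χ ∈ S, d i χ * d j χ = if i = j then 4 else 2
  mult : ∀ χ ∈ S, ∃ m : ℕ, (n χ : ℤ) + 7 * (d 0 χ + d 1 χ + d 2 χ) = 8 * m
  weight : ∑ χ ∈ S, (((d 0 χ + d 1 χ + d 2 χ) ^ 2 * (d 0 χ - d 1 χ) : ℤ) : ℚ) / (n χ : ℚ) = 0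

variable {S : Finset ι} {o : ι} {d : Fin 3 → ι → ℤ} {n : ι → ℕ}

theorem Rows.small (h : Rows S o d n) (i : Fin 3) : ∀ χ ∈ S, d i χ = -1 ∨ d i χ = 0 ∨ d i χ = 1 := by
  intro χ hχ
  have hg : ∑ ψ ∈ S, d i ψ * d i ψ = 4 := by simpa using h.gram i i
  have hle : d i χ * d i χ ≤ 4 := hg ▸ Finset.single_le_sum (fun ψ _ => mul_self_nonneg (d i ψ)) hχ
  by_contra hne
  push Not at hne
  have hsq : d i χ * d i χ = 4 := by
    have h1 : d i χ ≤ 2 := by nlinarith
    have h2 : -2 ≤ d i χ := by nlinarith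
    interval_cases d i χ <;> omega
  have hz : ∀ ψ ∈ S, ψ ≠ χ → d i ψ = 0 := by
    intro ψ hψ hψχ
    rw [← Finset.add_sum_erase S _ hχ] at hg
    have hrest : ∑ φ ∈ S.erase χ, d i φ * d i φ = 0 := by linarith
    exact mul_self_eq_zero.mp ((Finset.sum_eq_zero_iff_of_nonneg (fun φ _ => mul_self_nonneg (d i φ))).mp
      hrest ψ (Finset.mem_erase.mpr ⟨hψχ, hψ⟩))
  have hdeg := h.deg i
  rw [Finset.sum_eq_single_of_mem χ hχ fun ψ hψ hne => by rw [hz ψ hψ hne, mul_zero]] at hdeg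
  rcases mul_eq_zero.mp hdeg with h' | h'
  · have := h.pos χ hχ
    omega
  · omega

theorem Rows.sq (h : Rows S o d n) {i : Fin 3} {χ : ι} (hχ : χ ∈ S) (hne : d i χ ≠ 0) :
    d i χ * d i χ = 1 := by
  rcases h.small i χ hχ with e | e | e <;> simp_all

theorem Rows.prod_small (h : Rows S o d n) {χ : ι} (hχ : χ ∈ S) {i j : Fin 3} :
    d i χ * d j χ = -1 ∨ d i χ * d j χ = 0 ∨ d i χ * d j χ = 1 := by
  rcases h.small i χ hχ with e | e | e <;> rcases h.small j χ hχ with f | f | f <;> rw [e, f] <;> norm_num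

theorem Rows.card_support (h : Rows S o d n) (i : Fin 3) :
    (S.filter fun χ => d i χ ≠ 0).card = 4 := by
  have hg : ∑ ψ ∈ S, d i ψ * d i ψ = 4 := by simpa using h.gram i i
  rw [← Finset.sum_filter_of_ne (p := fun χ => d i χ ≠ 0) (fun χ _ hne h0 => hne (by rw [h0, mul_zero])),
    Finset.sum_congr rfl (g := fun _ => (1 : ℤ)) fun χ hχ => h.sq (Finset.mem_filter.mp hχ).1
      (Finset.mem_filter.mp hχ).2, Finset.sum_const, nsmul_eq_mul, mul_one] at hg
  exact_mod_cast hg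

theorem Rows.exists_support (h : Rows S o d n) : ∃ a b c : ι, a ≠ b ∧ a ≠ c ∧ b ≠ c ∧
    (S.filter fun χ => d 0 χ ≠ 0) = {o, a, b, c} ∧ o ≠ a ∧ o ≠ b ∧ o ≠ c := by
  have ho : o ∈ S.filter fun χ => d 0 χ ≠ 0 :=
    Finset.mem_filter.mpr ⟨h.mem, by rw [h.triv0]; exact one_ne_zero⟩
  have hc := h.card_support 0
  rw [← Finset.card_erase_add_one ho] at hc
  obtain ⟨a, b, c, hab, hac, hbc, he⟩ := Finset.card_eq_three.mp (show ((S.filter fun χ => d 0 χ ≠ 0).erase o).card = 3 by omega)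
  have hno : o ∉ ({a, b, c} : Finset ι) := he ▸ Finset.notMem_erase _ _
  simp only [Finset.mem_insert, Finset.mem_singleton, not_or] at hno
  exact ⟨a, b, c, hab, hac, hbc, by rw [← Finset.insert_erase ho, he], hno.1, hno.2.1, hno.2.2⟩

/-- Two of the three vectors agree at exactly two of `a, b, c`. -/
theorem Rows.agree (h : Rows S o d n) {a b c : ι} (hab : a ≠ b) (hac : a ≠ c) (hbc : b ≠ c)
    (he : (S.filter fun χ => d 0 χ ≠ 0) = {o, a, b, c}) (hoa : o ≠ a) (hob : o ≠ b) (hoc : o ≠ c)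
    {i : Fin 3} (hi : i = 1 ∨ i = 2) :
    (d i a = d 0 a ∧ d i b = d 0 b ∧ d i c = 0) ∨ (d i a = d 0 a ∧ d i c = d 0 c ∧ d i b = 0) ∨
      (d i b = d 0 b ∧ d i c = d 0 c ∧ d i a = 0) := by
  have hg : ∑ χ ∈ S, d 0 χ * d i χ = 2 := by
    rw [h.gram, if_neg]
    rcases hi with rfl | rfl <;> decide
  have hio : d i o = 0 := by rcases hi with rfl | rfl <;> first | exact h.triv1 | exact h.triv2
  rw [← Finset.sum_filter_of_ne (p := fun χ => d 0 χ ≠ 0) (fun χ _ hne h0 => hne (by rw [h0, zero_mul])),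
    he, Finset.sum_insert (by simp [hoa, hob, hoc]), Finset.sum_insert (by simp [hab, hac]),
    Finset.sum_pair hbc, hio] at hg
  have hm : ∀ χ ∈ ({o, a, b, c} : Finset ι), χ ∈ S ∧ d 0 χ ≠ 0 := fun χ hχ => by
    rw [← he] at hχ; exact Finset.mem_filter.mp hχ
  obtain ⟨haS, ha0⟩ := hm a (by simp)
  obtain ⟨hbS, hb0⟩ := hm b (by simp)
  obtain ⟨hcS, hc0⟩ := hm c (by simp)
  rcases h.small 0 a haS with ea | ea | ea <;> rcases h.small 0 b hbS with eb | eb | eb <;>
    rcases h.small 0 c hcS with ec | ec | ec <;> rcases h.small i a haS with fa | fa | fa <;>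
    rcases h.small i b hbS with fb | fb | fb <;> rcases h.small i c hcS with fc | fc | fc <;>
    simp_all

theorem split_four {S : Finset ι} {a b c e : ι} (hs : ({a, b, c, e} : Finset ι) ⊆ S) (hab : a ≠ b)
    (hac : a ≠ c) (hae : a ≠ e) (hbc : b ≠ c) (hbe : b ≠ e) (hce : c ≠ e) {M : Type*}
    [AddCommMonoid M] (F : ι → M) (hF : ∀ χ ∈ S, χ ∉ ({a, b, c, e} : Finset ι) → F χ = 0) :
    ∑ χ ∈ S, F χ = F a + (F b + (F c + F e)) := by
  rw [← Finset.sum_subset hs hF, Finset.sum_insert (by simp [hab, hac, hae]),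
    Finset.sum_insert (by simp [hbc, hbe]), Finset.sum_pair hce]

/-- The arithmetic of the first case. -/
theorem case_one {C D E : ℤ} (hC : C ≠ 0) (hD : D ≠ 0) (hE : E ≠ 0) (h1 : 1 + C = D + E)
    (hw : (1 : ℚ) + 1 / C - 1 / D - 1 / E = 0) : C = -1 ∨ D = 1 ∨ E = 1 := by
  have hw' : (C * D * E + D * E - C * E - C * D : ℤ) = 0 := by
    have : ((C * D * E + D * E - C * E - C * D : ℤ) : ℚ) = 0 := by
      have hC' : (C : ℚ) ≠ 0 := Int.cast_ne_zero.mpr hC
      have hD' : (D : ℚ) ≠ 0 := Int.cast_ne_zero.mpr hD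
      have hE' : (E : ℚ) ≠ 0 := Int.cast_ne_zero.mpr hE
      field_simp at hw
      push_cast
      linear_combination hw
    exact_mod_cast this
  have key : (1 + C) * ((D - 1) * (E - 1)) = 0 := by
    linear_combination hw' + h1
  rcases mul_eq_zero.mp key with h | h
  · exact Or.inl (by linarith)
  · rcases mul_eq_zero.mp h with h | h
    · exact Or.inr (Or.inl (by linarith))
    · exact Or.inr (Or.inr (by linarith))

/-- The arithmetic of the second case. -/
theorem case_two {C D E : ℤ} (hC : C ≠ 0) (hD : D ≠ 0) (hE : E ≠ 0) (h1 : 1 + C = D + E)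
    (hw : (1 : ℚ) + 4 / C - 4 / D - 1 / E = 0) (hC8 : C % 8 = 2) (hCs : 0 < C ∨ C ≤ -14) :
    E = 1 := by
  have hw' : (C * D * E + 4 * D * E - 4 * C * E - C * D : ℤ) = 0 := by
    have : ((C * D * E + 4 * D * E - 4 * C * E - C * D : ℤ) : ℚ) = 0 := by
      have hC' : (C : ℚ) ≠ 0 := Int.cast_ne_zero.mpr hC
      have hD' : (D : ℚ) ≠ 0 := Int.cast_ne_zero.mpr hD
      have hE' : (E : ℚ) ≠ 0 := Int.cast_ne_zero.mpr hE
      field_simp at hw
      push_cast
      linear_combination hw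
    exact_mod_cast this
  obtain rfl : D = 1 + C - E := by linarith
  have key : (E - 1) * ((C + 4) * E - (C * C + C)) = 0 := by linear_combination -hw'
  rcases mul_eq_zero.mp key with h | h
  · linarith
  · have hdvd : C + 4 ∣ 12 := ⟨E - (C - 3), by linear_combination -h⟩
    have hle : C + 4 ≤ 12 := Int.le_of_dvd (by norm_num) hdvd
    have hge : -(C + 4) ≤ 12 := Int.le_of_dvd (by norm_num) (neg_dvd.mpr hdvd)
    have hCcase : C = 2 ∨ C = -14 := by omega
    rcases hCcase with rfl | rfl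
    · linarith
    · norm_num at hdvd

variable (h : Rows S o d n)
include h

/-- The signed degree of a row. -/
theorem Rows.signed {χ : ι} (hχ : χ ∈ S) {i : Fin 3} (hne : d i χ ≠ 0) :
    (d i χ * n χ : ℤ) ≠ 0 := mul_ne_zero hne (by have := h.pos χ hχ; omega)

/-- A row with signed degree `± 1` is trivial. -/
theorem Rows.eq_triv {χ : ι} (hχ : χ ∈ S) {i : Fin 3}
    (hx : d i χ * (n χ : ℤ) = 1 ∨ d i χ * (n χ : ℤ) = -1) : χ = o := by
  refine h.one χ hχ ?_
  rcases h.small i χ hχ with e | e | e <;> rw [e] at hx <;> rcases hx with hx | hx <;> omega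

/-- The case `a, b` common to the second vector; third vector at `a, b` or at `a, c`. -/
theorem Rows.false_of_agree {a b c : ι} (hab : a ≠ b) (hac : a ≠ c) (hbc : b ≠ c)
    (he : (S.filter fun χ => d 0 χ ≠ 0) = {o, a, b, c}) (hoa : o ≠ a) (hob : o ≠ b) (hoc : o ≠ c)
    (h1 : d 1 a = d 0 a ∧ d 1 b = d 0 b ∧ d 1 c = 0)
    (h2 : (d 2 a = d 0 a ∧ d 2 b = d 0 b ∧ d 2 c = 0) ∨ (d 2 a = d 0 a ∧ d 2 c = d 0 c ∧ d 2 b = 0)) :
    False := by
  obtain ⟨h1a, h1b, h1c⟩ := h1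
  have hmem : ∀ χ ∈ ({o, a, b, c} : Finset ι), χ ∈ S ∧ d 0 χ ≠ 0 := fun χ hχ => by
    rw [← he] at hχ; exact Finset.mem_filter.mp hχ
  obtain ⟨haS, ha0⟩ := hmem a (by simp)
  obtain ⟨hbS, hb0⟩ := hmem b (by simp)
  obtain ⟨hcS, hc0⟩ := hmem c (by simp)
  have hz0 : ∀ χ ∈ S, χ ∉ ({o, a, b, c} : Finset ι) → d 0 χ = 0 := fun χ hχ hn => by
    by_contra hne
    exact hn (he ▸ Finset.mem_filter.mpr ⟨hχ, hne⟩)
  -- the two rows of the second vector outside the first
  have hsub : ({a, b} : Finset ι) ⊆ S.filter fun χ => d 1 χ ≠ 0 := by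
    intro χ hχ
    simp only [Finset.mem_insert, Finset.mem_singleton] at hχ
    rcases hχ with rfl | rfl
    · exact Finset.mem_filter.mpr ⟨haS, by rw [h1a]; exact ha0⟩
    · exact Finset.mem_filter.mpr ⟨hbS, by rw [h1b]; exact hb0⟩
  have hcard := h.card_support 1
  rw [← Finset.card_sdiff_add_card_eq_card hsub, Finset.card_pair hab] at hcard
  obtain ⟨D₀, E₀, hDE₀, hout₀⟩ := Finset.card_eq_two.mp
    (show ((S.filter fun χ => d 1 χ ≠ 0) \ {a, b}).card = 2 by omega)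
  obtain ⟨D, E, hDE, hout, hord⟩ : ∃ D E : ι, D ≠ E ∧
      (S.filter fun χ => d 1 χ ≠ 0) \ {a, b} = {D, E} ∧ (d 2 E = 0 ∨ d 2 D ≠ 0) := by
    by_cases h0 : d 2 E₀ = 0
    · exact ⟨D₀, E₀, hDE₀, hout₀, Or.inl h0⟩
    · exact ⟨E₀, D₀, hDE₀.symm, by rw [hout₀, Finset.pair_comm], Or.inr h0⟩
  have hDEm : ∀ χ ∈ ({D, E} : Finset ι), χ ∈ S ∧ d 1 χ ≠ 0 ∧ χ ≠ a ∧ χ ≠ b ∧ χ ≠ o ∧ χ ≠ c ∧ d 0 χ = 0 := by
    intro χ hχ
    rw [← hout] at hχ
    simp only [Finset.mem_sdiff, Finset.mem_filter, Finset.mem_insert, Finset.mem_singleton, not_or] at hχ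
    obtain ⟨⟨hS, h1χ⟩, hχa, hχb⟩ := hχ
    have hχo : χ ≠ o := fun e => h1χ (e ▸ h.triv1)
    have hχc : χ ≠ c := fun e => h1χ (e ▸ h1c)
    exact ⟨hS, h1χ, hχa, hχb, hχo, hχc, hz0 χ hS (by simp [hχo, hχa, hχb, hχc])⟩
  obtain ⟨hDS, hD1, hDa, hDb, hDo, hDc, hD0⟩ := hDEm D (by simp)
  obtain ⟨hES, hE1, hEa, hEb, hEo, hEc, hE0⟩ := hDEm E (by simp)
  have hs1 : ({a, b, D, E} : Finset ι) ⊆ S := by
    intro χ hχ
    simp only [Finset.mem_insert, Finset.mem_singleton] at hχ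
    rcases hχ with rfl | rfl | rfl | rfl <;> assumption
  have hs0 : ({o, a, b, c} : Finset ι) ⊆ S := fun χ hχ => (hmem χ hχ).1
  have hz1 : ∀ χ ∈ S, χ ∉ ({a, b, D, E} : Finset ι) → d 1 χ = 0 := fun χ hχ hn => by
    by_contra hne
    simp only [Finset.mem_insert, Finset.mem_singleton, not_or] at hn
    have : χ ∈ (S.filter fun χ => d 1 χ ≠ 0) \ {a, b} :=
      Finset.mem_sdiff.mpr ⟨Finset.mem_filter.mpr ⟨hχ, hne⟩, by simp [hn.1, hn.2.1]⟩
    rw [hout] at this
    simp [hn.2.2.1, hn.2.2.2] at this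
  -- the degree equations
  have f0 := h.deg 0
  rw [split_four hs0 hoa hob hoc hab hac hbc _ (fun χ hχ hn => by rw [hz0 χ hχ hn, mul_zero]),
    h.triv, h.triv0] at f0
  have f1 := h.deg 1
  rw [split_four hs1 hab hDa.symm hEa.symm hDb.symm hEb.symm hDE _
    (fun χ hχ hn => by rw [hz1 χ hχ hn, mul_zero]), h1a, h1b] at f1
  set C' := d 0 c * (n c : ℤ) with hC'
  set D' := d 1 D * (n D : ℤ) with hD'
  set E' := d 1 E * (n E : ℤ) with hE'
  have hsum : 1 + C' = D' + E' := by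
    rw [hC', hD', hE']; push_cast at f0; linarith
  -- the inner product with the third vector
  have g12 : ∑ χ ∈ S, d 1 χ * d 2 χ = 2 := by rw [h.gram, if_neg (by decide)]
  rw [split_four hs1 hab hDa.symm hEa.symm hDb.symm hEb.symm hDE _
    (fun χ hχ hn => by rw [hz1 χ hχ hn, zero_mul])] at g12
  -- the weights, supported where the first two vectors differ
  have hT : ({o, c, D, E} : Finset ι) ⊆ S := by
    intro χ hχ
    simp only [Finset.mem_insert, Finset.mem_singleton] at hχ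
    rcases hχ with rfl | rfl | rfl | rfl <;> first | exact h.mem | assumption
  have hwt := h.weight
  rw [split_four hT hoc hDo.symm hEo.symm hDc.symm hEc.symm hDE _ (fun χ hχ hn => by
    have hd : d 0 χ - d 1 χ = 0 := by
      simp only [Finset.mem_insert, Finset.mem_singleton, not_or] at hn
      by_cases hχa : χ = a
      · rw [hχa, h1a, sub_self]
      by_cases hχb : χ = b
      · rw [hχb, h1b, sub_self]
      rw [hz0 χ hχ (by simp [hn.1, hn.2.1, hχa, hχb]), hz1 χ hχ (by simp [hn.2.2.1, hn.2.2.2, hχa, hχb]),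
        sub_self]
    rw [hd, mul_zero, Int.cast_zero, zero_div])] at hwt
  rw [h.triv, h.triv0, h.triv1, h.triv2, h1c, hD0, hE0] at hwt
  have sa := h.sq haS ha0
  have sb := h.sq hbS hb0
  have sc := h.sq hcS hc0
  have sD := h.sq hDS hD1
  have sE := h.sq hES hE1
  have hinv : ∀ (σ : ℤ) (m : ℕ), σ * σ = 1 → 0 < m → ((σ : ℚ) / (m : ℚ)) = 1 / ((σ * m : ℤ) : ℚ) := by
    intro σ m hσ hm
    have hσ' : (σ : ℚ) * σ = 1 := by exact_mod_cast hσ
    have hm' : (m : ℚ) ≠ 0 := Nat.cast_ne_zero.mpr hm.ne'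
    have hσ0 : (σ : ℚ) ≠ 0 := left_ne_zero_of_mul_eq_one hσ'
    push_cast
    field_simp
    linear_combination hσ'
  have hCne : C' ≠ 0 := h.signed hcS hc0
  have hDne : D' ≠ 0 := h.signed hDS hD1
  have hEne : E' ≠ 0 := h.signed hES hE1
  rcases h2 with ⟨h2a, h2b, h2c⟩ | ⟨h2a, h2c, h2b⟩
  · -- the third vector agrees at `a, b`
    rw [h1a, h1b, h2a, h2b, sa, sb] at g12
    have hDE0 : d 1 D * d 2 D + d 1 E * d 2 E = 0 := by linarith
    have hboth : d 2 D = 0 ∧ d 2 E = 0 := by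
      by_contra hne
      have hD2 : d 2 D = d 1 D * (d 1 D * d 2 D) := by rw [← mul_assoc, sD, one_mul]
      have hE2 : d 2 E = d 1 E * (d 1 E * d 2 E) := by rw [← mul_assoc, sE, one_mul]
      have hu : d 1 D * d 2 D = 1 ∧ d 1 E * d 2 E = -1 ∨ d 1 D * d 2 D = -1 ∧ d 1 E * d 2 E = 1 := by
        rcases h.prod_small hDS (i := 1) (j := 2) with f | f | f
        · right; omega
        · refine absurd ⟨(mul_eq_zero.mp f).resolve_left hD1, ?_⟩ hne
          exact (mul_eq_zero.mp (show d 1 E * d 2 E = 0 by omega)).resolve_left hE1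
        · left; omega
      have h2D : d 2 D ≠ 0 := fun z => by rcases hu with hu | hu <;> simp [z] at hu
      have h2E : d 2 E ≠ 0 := fun z => by rcases hu with hu | hu <;> simp [z] at hu
      have hs2 : ({a, b, D, E} : Finset ι) = S.filter fun χ => d 2 χ ≠ 0 := by
        refine Finset.eq_of_subset_of_card_le ?_ ?_
        · intro χ hχ
          refine Finset.mem_filter.mpr ⟨hs1 hχ, ?_⟩
          simp only [Finset.mem_insert, Finset.mem_singleton] at hχ
          rcases hχ with rfl | rfl | rfl | rfl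
          · rw [h2a]; exact ha0
          · rw [h2b]; exact hb0
          · exact h2D
          · exact h2E
        · rw [h.card_support 2, Finset.card_insert_of_notMem (by simp [hab, hDa.symm, hEa.symm]),
            Finset.card_insert_of_notMem (by simp [hDb.symm, hEb.symm]), Finset.card_pair hDE]
      have f2 := h.deg 2
      rw [split_four hs1 hab hDa.symm hEa.symm hDb.symm hEb.symm hDE _ (fun χ hχ hn => by
        rw [hs2, Finset.mem_filter, not_and, not_not] at hn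
        rw [hn hχ, mul_zero]), h2a, h2b] at f2
      rcases hu with ⟨u1, u2⟩ | ⟨u1, u2⟩
      · rw [u1, mul_one] at hD2
        rw [u2, mul_neg, mul_one] at hE2
        rw [hD2, hE2] at f2
        apply hEne
        rw [hE']
        linarith
      · rw [u1, mul_neg, mul_one] at hD2
        rw [u2, mul_one] at hE2
        rw [hD2, hE2] at f2
        apply hDne
        rw [hD']
        linarith
    rw [h2c, hboth.1, hboth.2] at hwt
    have hw : (1 : ℚ) + 1 / (C' : ℚ) - 1 / (D' : ℚ) - 1 / (E' : ℚ) = 0 := by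
      rw [hC', hD', hE', ← hinv _ _ sc (h.pos c hcS), ← hinv _ _ sD (h.pos D hDS),
        ← hinv _ _ sE (h.pos E hES)]
      have qc : (d 0 c : ℚ) * d 0 c = 1 := by exact_mod_cast sc
      have qD : (d 1 D : ℚ) * d 1 D = 1 := by exact_mod_cast sD
      have qE : (d 1 E : ℚ) * d 1 E = 1 := by exact_mod_cast sE
      push_cast at hwt
      linear_combination hwt - (d 0 c : ℚ) / (n c : ℚ) * qc + (d 1 D : ℚ) / (n D : ℚ) * qD +
        (d 1 E : ℚ) / (n E : ℚ) * qE
    rcases case_one hCne hDne hEne hsum hw with e | e | e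
    · exact hoc (h.eq_triv hcS (Or.inr e)).symm
    · exact hDo (h.eq_triv hDS (Or.inl e))
    · exact hEo (h.eq_triv hES (Or.inl e))
  · -- the third vector agrees at `a, c`
    rw [h1a, h1b, h2a, h2b, sa] at g12
    have hDE1 : d 1 D * d 2 D + d 1 E * d 2 E = 1 := by linarith
    have hD2 : d 2 E = 0 := by
      rcases hord with h0 | h2D
      · exact h0
      refine (mul_eq_zero.mp (show d 1 E * d 2 E = 0 from ?_)).resolve_left hE1
      have hne : d 1 D * d 2 D ≠ 0 := mul_ne_zero hD1 h2D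
      rcases h.prod_small hDS (i := 1) (j := 2) with f | f | f <;>
        rcases h.prod_small hES (i := 1) (j := 2) with g | g | g <;> omega
    rw [hD2, mul_zero, add_zero] at hDE1
    have h2D : d 2 D = d 1 D := by
      have := congrArg (d 1 D * ·) hDE1
      simp only [← mul_assoc, sD, one_mul, mul_one] at this
      exact this
    rw [h2c, h2D, hD2] at hwt
    have hw : (1 : ℚ) + 4 / (C' : ℚ) - 4 / (D' : ℚ) - 1 / (E' : ℚ) = 0 := by
      rw [show (4 : ℚ) / (C' : ℚ) = 4 * (1 / (C' : ℚ)) by ring,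
        show (4 : ℚ) / (D' : ℚ) = 4 * (1 / (D' : ℚ)) by ring,
        hC', hD', hE', ← hinv _ _ sc (h.pos c hcS), ← hinv _ _ sD (h.pos D hDS),
        ← hinv _ _ sE (h.pos E hES)]
      have qc : (d 0 c : ℚ) * d 0 c = 1 := by exact_mod_cast sc
      have qD : (d 1 D : ℚ) * d 1 D = 1 := by exact_mod_cast sD
      have qE : (d 1 E : ℚ) * d 1 E = 1 := by exact_mod_cast sE
      push_cast at hwt
      linear_combination hwt - 4 * (d 0 c : ℚ) / (n c : ℚ) * qc + 4 * (d 1 D : ℚ) / (n D : ℚ) * qD +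
        (d 1 E : ℚ) / (n E : ℚ) * qE
    obtain ⟨m, hm⟩ := h.mult c hcS
    rw [h1c, h2c] at hm
    have hnc := h.pos c hcS
    have hC8 : C' % 8 = 2 ∧ (0 < C' ∨ C' ≤ -14) := by
      rcases h.small 0 c hcS with e | e | e <;> rw [e] at hm hc0 <;> rw [hC', e] <;> omega
    exact hEo (h.eq_triv hES (Or.inl (case_two hCne hDne hEne hsum hw hC8.1 hC8.2)))

/-- No such rows exist. -/
theorem Rows.absurd : False := by
  obtain ⟨a, b, c, hab, hac, hbc, he, hoa, hob, hoc⟩ := h.exists_support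
  have e1 : (S.filter fun χ => d 0 χ ≠ 0) = {o, a, c, b} := by rw [he, Finset.pair_comm b c]
  have e2 : (S.filter fun χ => d 0 χ ≠ 0) = {o, b, a, c} := by rw [he, Finset.insert_comm a b]
  have e3 : (S.filter fun χ => d 0 χ ≠ 0) = {o, b, c, a} := by rw [e2, Finset.pair_comm a c]
  have e4 : (S.filter fun χ => d 0 χ ≠ 0) = {o, c, a, b} := by rw [e1, Finset.insert_comm a c]
  have e5 : (S.filter fun χ => d 0 χ ≠ 0) = {o, c, b, a} := by rw [e4, Finset.pair_comm a b]
  rcases h.agree hab hac hbc he hoa hob hoc (Or.inl rfl) with ⟨u, v, w⟩ | ⟨u, v, w⟩ | ⟨u, v, w⟩ <;>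
    rcases h.agree hab hac hbc he hoa hob hoc (Or.inr rfl) with ⟨u', v', w'⟩ | ⟨u', v', w'⟩ | ⟨u', v', w'⟩
  · exact h.false_of_agree hab hac hbc he hoa hob hoc ⟨u, v, w⟩ (Or.inl ⟨u', v', w'⟩)
  · exact h.false_of_agree hab hac hbc he hoa hob hoc ⟨u, v, w⟩ (Or.inr ⟨u', v', w'⟩)
  · exact h.false_of_agree hab.symm hbc hac e2 hob hoa hoc ⟨v, u, w⟩ (Or.inr ⟨u', v', w'⟩)
  · exact h.false_of_agree hac hab hbc.symm e1 hoa hoc hob ⟨u, v, w⟩ (Or.inr ⟨u', v', w'⟩)
  · exact h.false_of_agree hac hab hbc.symm e1 hoa hoc hob ⟨u, v, w⟩ (Or.inl ⟨u', v', w'⟩)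
  · exact h.false_of_agree hac.symm hbc.symm hab e4 hoc hoa hob ⟨v, u, w⟩ (Or.inr ⟨v', u', w'⟩)
  · exact h.false_of_agree hbc hab.symm hac.symm e3 hob hoc hoa ⟨u, v, w⟩ (Or.inr ⟨v', u', w'⟩)
  · exact h.false_of_agree hbc.symm hac.symm hab.symm e5 hoc hob hoa ⟨v, u, w⟩ (Or.inr ⟨v', u', w'⟩)
  · exact h.false_of_agree hbc hab.symm hac.symm e3 hob hoc hoa ⟨u, v, w⟩ (Or.inl ⟨u', v', w'⟩)

end CfsgLib.EightSylow
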