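import Cfsg.Agent.Lib.EightSylow.Local
import Cfsg.Agent.Lib.EightSylow.Gram
import Cfsg.Agent.Lib.Blocks.SectionOrth
import Cfsg.Agent.Lib.Blocks.PrincipalQuot
import Cfsg.Agent.Lib.Blocks.PrincipalPSolvable
import Cfsg.Agent.Lib.Blocks.Inflate
import Cfsg.Agent.Lib.Char.Counting
import Cfsg.Agent.Lib.Char.Table

/-!
# The three vectors of norm four on the section of an involution
-/

set_option autoImplicit false
set_option linter.unusedSectionVars false
set_option maxHeartbeats 1600000

namespace CfsgLib.EightSylow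

open Cfsg CfsgLib.Blocks
open scoped ComplexConjugate CfsgLib.Char

/-- Fourier coefficients on three points. -/
noncomputable def coef (z : ℂ) (w : Fin 3 → ℂ) (i : Fin 3) : ℂ :=
  (∑ k : Fin 3, w k * z ^ (2 * ((i : ℕ) * (k : ℕ)))) / 3

theorem pow_reduce {z : ℂ} (hz3 : z ^ 3 = 1) (n : ℕ) : z ^ n = z ^ (n % 3) := by
  conv_lhs => rw [← Nat.mod_add_div n 3, pow_add, pow_mul, hz3, one_pow, mul_one]

theorem sum_coef {z : ℂ} (hz : z ^ 2 + z + 1 = 0) (hz3 : z ^ 3 = 1) (w : Fin 3 → ℂ) (k : Fin 3) :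
    ∑ j : Fin 3, coef z w j * z ^ ((j : ℕ) * (k : ℕ)) = w k := by
  have e4 : z ^ 4 = z := by rw [pow_succ, hz3, one_mul]
  have e8 : z ^ 8 = z ^ 2 := pow_reduce hz3 8
  have e2 : z ^ 2 = -1 - z := by linear_combination hz
  fin_cases k <;> norm_num [coef, Fin.sum_univ_three, e4, e8] <;> ring_nf <;>
    norm_num [e4, e8, hz3, pow_reduce hz3 5, pow_reduce hz3 6, pow_reduce hz3 9, pow_reduce hz3 10,
      pow_reduce hz3 12, e2] <;> (try ring) <;> rfl

variable {G : Type*} [Group G]

theorem part_unique [Finite G] {t y y' g : G} (ht : ∃ k : ℕ, orderOf t = 2 ^ k) (hc : Commute t y)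
    (hy : ¬ 2 ∣ orderOf y) (hc' : Commute t y') (hy' : ¬ 2 ∣ orderOf y')
    (h : g * (t * y) * g⁻¹ = t * y') : g * t = t * g ∧ g * y * g⁻¹ = y' := by
  have h1 := IsPPart.conj (isPPart_mul (p := 2) hc ht hy) g
  rw [h] at h1
  have h2 := IsPPart.unique Nat.prime_two h1 (isPPart_mul (p := 2) hc' ht hy')
  refine ⟨mul_inv_eq_iff_eq_mul.mp h2, mul_left_cancel (a := t) ?_⟩
  calc t * (g * y * g⁻¹) = g * t * g⁻¹ * (g * y * g⁻¹) := by rw [h2]
    _ = g * (t * y) * g⁻¹ := by group
    _ = t * y' := h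

theorem absurd_of_section [Finite G] [IsSimpleGroup G] (hG : ¬ IsMulCommutative G) (S : Sylow 2 G)
    (hS8 : Nat.card ↥(S : Subgroup G) = 8) {t : G} (ht1 : t ≠ 1) (ht2 : t * t = 1)
    (hsol : Group.IsSolvable ↥(Subgroup.centralizer ({t} : Set G)))
    (hconj : ∀ u ∈ (S : Subgroup G), u ≠ 1 → IsConj t u) (sec : Section t) : False := by
  classical
  letI : Fintype G := Fintype.ofFinite G
  haveI : Fact (Nat.Prime 2) := ⟨Nat.prime_two⟩
  letI : Fintype ↥(Subgroup.centralizer ({t} : Set G)) := Fintype.ofFinite _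
  haveI := Transfer.pPrimeCore_normal 2 ↥(Subgroup.centralizer ({t} : Set G))
  set C := Subgroup.centralizer ({t} : Set G) with hC
  obtain ⟨M, hM⟩ := exists_isPModular Nat.prime_two
  haveI := isPrime_of_isPModular hM
  have hto : orderOf t = 2 := orderOf_eq_prime (by rw [sq, ht2]) ht1
  have hx : ∃ k : ℕ, orderOf t = 2 ^ k := ⟨1, by rw [hto, pow_one]⟩
  have hti : t⁻¹ = t := inv_eq_of_mul_eq_one_right ht2
  have hcomm : ∀ c : C, Commute t (c : G) := fun c =>
    (Subgroup.mem_centralizer_singleton_iff.mp c.2).symm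
  -- the cube root
  set z : ℂ := (sec.ω : ℂ) with hzdef
  have hz3 : z ^ 3 = 1 := by rw [hzdef, ← Units.val_pow_eq_pow_val, sec.ω_pow, Units.val_one]
  have hz1 : z ≠ 1 := fun h => sec.ω_ne (Units.val_eq_one.mp h)
  have hz : z ^ 2 + z + 1 = 0 := by
    have : (z - 1) * (z ^ 2 + z + 1) = 0 := by linear_combination hz3
    exact (mul_eq_zero.mp this).resolve_left (sub_ne_zero.mpr hz1)
  have hzc : conj z = z ^ 2 := by
    rw [← Complex.inv_eq_conj (Complex.norm_eq_one_of_pow_eq_one hz3 (by norm_num))]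
    exact inv_eq_of_mul_eq_one_right (by rw [← pow_succ']; exact hz3)
  have hω : ∀ a b : Fin 3, sec.ω ^ (a : ℕ) = sec.ω ^ (b : ℕ) → a = b := by
    intro a b h
    have ho : orderOf sec.ω = 3 := by
      haveI : Fact (Nat.Prime 3) := ⟨Nat.prime_three⟩
      exact orderOf_eq_prime sec.ω_pow sec.ω_ne
    exact Fin.ext (pow_injOn_Iio_orderOf (by rw [Set.mem_Iio, ho]; exact a.2)
      (by rw [Set.mem_Iio, ho]; exact b.2) h)
  choose kk hkk using sec.lam_reg
  set F : Fin 3 → Finset C := fun k => Finset.univ.filter fun y => ¬ 2 ∣ orderOf y ∧ kk y = k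
  have memF : ∀ {k : Fin 3} {y : C}, y ∈ F k ↔ ¬ 2 ∣ orderOf y ∧ kk y = k := by simp [F]
  have hkiff : ∀ y k, kk y = k ↔ sec.lam y = sec.ω ^ (k : ℕ) := fun y k =>
    ⟨fun h => h ▸ hkk y, fun h => hω _ _ ((hkk y).symm.trans h)⟩
  have hFcard : ∀ k, (F k).card = if k = 0 then sec.m else 4 * sec.m := by
    intro k
    rw [← sec.fibre k, Nat.card_eq_fintype_card, Fintype.card_subtype]
    congr 1
    ext y
    simp only [Finset.mem_filter, Finset.mem_univ, true_and, memF, hkiff]
  have hFpos : ∀ k, ((F k).card : ℂ) ≠ 0 := fun k => by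
    rw [hFcard, Nat.cast_ne_zero]; have := sec.m_pos; split <;> omega
  -- the characters
  set B := Finset.univ.filter fun χ : IrrCharacter G => χ ∈ principalBlock M G with hB
  have memB : ∀ {χ}, χ ∈ B ↔ χ ∈ principalBlock M G := by simp [hB]
  set w : Fin 3 → IrrCharacter G → ℂ := fun k χ => (χ : G → ℂ) (t * ((sec.h ^ (k : ℕ) : C) : G))
    with hw
  have hval : ∀ χ ∈ B, ∀ k, ∀ y ∈ F k, (χ : G → ℂ) (t * (y : G)) = w k χ := by
    intro χ hχ k y hy
    obtain ⟨hy1, hy2⟩ := memF.mp hy
    obtain ⟨g, v, hv, rfl⟩ := sec.conj y hy1 k ((hkiff y k).mp hy2)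
    rw [value_mul_pPrimeCore hM hx (memB.mp hχ) (y := g * sec.h ^ (k : ℕ) * g⁻¹) ?_ hy1 hv]
    · have e : t * ((g * sec.h ^ (k : ℕ) * g⁻¹ : C) : G) =
          (g : G) * (t * ((sec.h ^ (k : ℕ) : C) : G)) * (g : G)⁻¹ := by
        rw [Subgroup.coe_mul, Subgroup.coe_mul, InvMemClass.coe_inv, ← mul_assoc (g : G) t,
          ← (hcomm g).eq]
        simp only [mul_assoc]
      rw [e, irr_classFunction χ (t * ((sec.h ^ (k : ℕ) : C) : G)) (g : G)]
    · rw [Transfer.orderOf_conj]
      exact fun h => sec.h_reg (h.trans (orderOf_pow_dvd _))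
  have hlamB : ∀ i : ℕ, ∃ ψ : IrrCharacter C, ψ ∈ principalBlock M C ∧
      ∀ c, (ψ : C → ℂ) c = (sec.lam c : ℂ) ^ i := by
    intro i
    refine ⟨⟨fun c => ((sec.lam ^ i) c : ℂ), Char.isIrrCharacter_monoidHom (sec.lam ^ i)⟩, ?_,
      fun c => by simp⟩
    refine (mem_principalBlock_iff_of_pSolvable hM (PSolvable.isPSolvable_of_isSolvable hsol) _).mpr
      (exists_inflate_eq_of_ker _ _ fun u hu => ?_)
    simp [sec.lam_core u hu]
  have hout : ∀ χ : IrrCharacter G, χ ∉ B → ∀ k, ∑ y ∈ F k, (χ : G → ℂ) (t * (y : G)) = 0 := by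
    intro χ hχ
    set U : Fin 3 → ℂ := fun k => ∑ y ∈ F k, (χ : G → ℂ) (t * (y : G))
    have e : ∀ i : ℕ, ∑ k : Fin 3, U k * (z ^ 2) ^ ((k : ℕ) * i) = 0 := by
      intro i
      obtain ⟨ψ, hψ, hψv⟩ := hlamB i
      have h := sum_regPart_mul_conj_eq_zero hM hx (fun h' => hχ (memB.mpr h')) hψ
      rw [← h, ← Finset.sum_subset (Finset.subset_univ (Finset.univ.filter fun y : C => ¬ 2 ∣ orderOf y))
        (fun r _ hr => by rw [regPart_of_singular (by simpa [IsPRegular] using hr), zero_mul]),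
        ← Finset.sum_fiberwise _ kk]
      refine Finset.sum_congr rfl fun k _ => ?_
      rw [Finset.filter_filter, Finset.sum_mul]
      refine Finset.sum_congr rfl fun y hy => ?_
      obtain ⟨hy1, hy2⟩ := memF.mp hy
      rw [regPart_of_regular hy1, hψv, (hkiff y k).mp hy2, Units.val_pow_eq_pow_val, ← pow_mul,
        ← pow_mul, map_pow, ← hzdef, hzc, ← pow_mul]
    have e0 := e 0
    have e1 := e 1
    have e2 := e 2
    simp only [Fin.sum_univ_three, Fin.val_zero, Fin.val_one, Fin.val_two, zero_mul, one_mul,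
      mul_zero, pow_zero, pow_one, mul_one, ← pow_mul, pow_reduce hz3 (2 * 2),
      pow_reduce hz3 (2 * (2 * 2))] at e0 e1 e2
    norm_num at e0 e1 e2
    intro k
    fin_cases k
    · show U 0 = 0
      linear_combination (1 / 3 : ℂ) * (e0 + e1 + e2) - (1 / 3 : ℂ) * (U 1 + U 2) * hz
    · show U 1 = 0
      linear_combination (1 / 3 : ℂ) * (e0 + z * e1 + z ^ 2 * e2)
        - (1 / 3 : ℂ) * (U 0 + U 2) * hz - (1 / 3 : ℂ) * (2 * U 1 + z * U 2) * hz3
    · show U 2 = 0
      linear_combination (1 / 3 : ℂ) * (e0 + z ^ 2 * e1 + z * e2)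
        - (1 / 3 : ℂ) * (U 0 + U 1) * hz - (1 / 3 : ℂ) * (z * U 1 + 2 * U 2) * hz3
  have hall : ∀ (f : IrrCharacter G → ℂ) (k : Fin 3),
      ∑ χ : IrrCharacter G, f χ * ∑ y ∈ F k, (χ : G → ℂ) (t * (y : G)) =
        ((F k).card : ℂ) * ∑ χ ∈ B, f χ * w k χ := by
    intro f k
    rw [← Finset.sum_subset (Finset.subset_univ B) (fun χ _ hχ => by rw [hout χ hχ k, mul_zero]),
      Finset.mul_sum]
    refine Finset.sum_congr rfl fun χ hχ => ?_
    rw [Finset.sum_congr rfl (hval χ hχ k), Finset.sum_const, nsmul_eq_mul]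
    ring
  -- orthogonality on the section
  have hclass : ∀ y : C, ¬ 2 ∣ orderOf y → ∀ y' : C, ¬ 2 ∣ orderOf y' →
      (IsConj (t * (y : G)) (t * (y' : G)) ↔ IsConj y y') := by
    intro y hy y' hy'
    constructor
    · intro h
      obtain ⟨g, hg⟩ := isConj_iff.mp h
      obtain ⟨h1, h2⟩ := part_unique hx (hcomm y) (by rwa [Subgroup.orderOf_coe]) (hcomm y')
        (by rwa [Subgroup.orderOf_coe]) hg
      exact isConj_iff.mpr ⟨⟨g, Subgroup.mem_centralizer_singleton_iff.mpr h1⟩, Subtype.ext h2⟩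
    · intro h
      obtain ⟨c, rfl⟩ := isConj_iff.mp h
      refine isConj_iff.mpr ⟨(c : G), ?_⟩
      rw [Subgroup.coe_mul, Subgroup.coe_mul, InvMemClass.coe_inv, ← mul_assoc (c : G) t,
        ← (hcomm c).eq]
      simp only [mul_assoc]
  have hcent : ∀ y : C, ¬ 2 ∣ orderOf y → Nat.card (Subgroup.centralizer ({t * (y : G)} : Set G)) =
      Nat.card (Subgroup.centralizer ({y} : Set C)) := by
    intro y hy
    have key : ∀ g : G, g * (t * (y : G)) = t * (y : G) * g → g * t = t * g ∧ g * y = (y : G) * g := by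
      intro g hg
      obtain ⟨h1, h2⟩ := part_unique hx (hcomm y) (by rwa [Subgroup.orderOf_coe]) (hcomm y)
        (by rwa [Subgroup.orderOf_coe]) (mul_inv_eq_iff_eq_mul.mpr hg)
      exact ⟨h1, mul_inv_eq_iff_eq_mul.mp h2⟩
    refine Nat.card_congr
      { toFun := fun g => ⟨⟨g.1, Subgroup.mem_centralizer_singleton_iff.mpr
          (key g.1 (Subgroup.mem_centralizer_singleton_iff.mp g.2)).1⟩,
          Subgroup.mem_centralizer_singleton_iff.mpr (Subtype.ext
            (key g.1 (Subgroup.mem_centralizer_singleton_iff.mp g.2)).2)⟩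
        invFun := fun c => ⟨c.1.1, Subgroup.mem_centralizer_singleton_iff.mpr ?_⟩
        left_inv := fun _ => rfl
        right_inv := fun _ => rfl }
    have h1 : (c.1.1) * (y : G) = (y : G) * c.1.1 :=
      congrArg Subtype.val (Subgroup.mem_centralizer_singleton_iff.mp c.2)
    rw [← mul_assoc, ← (hcomm c.1).eq, mul_assoc, h1, ← mul_assoc]
  have horth : ∀ k l : Fin 3, ∑ χ ∈ B, w k χ * conj (w l χ) =
      if k = l then (if k = 0 then 24 else 6) else 0 := by
    intro k l
    have h1 := hall (fun χ => conj (∑ y ∈ F l, (χ : G → ℂ) (t * (y : G)))) k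
    rw [Finset.sum_congr rfl (s₁ := B) (g := fun χ => ((F l).card : ℂ) * (w k χ * conj (w l χ)))
      (fun χ hχ => by
        rw [Finset.sum_congr rfl (hval χ hχ l), Finset.sum_const, nsmul_eq_mul, map_mul, map_natCast]
        ring), ← Finset.mul_sum] at h1
    have h2 : ∑ χ : IrrCharacter G, conj (∑ y ∈ F l, (χ : G → ℂ) (t * (y : G))) *
        ∑ y ∈ F k, (χ : G → ℂ) (t * (y : G)) =
        if k = l then ((F k).card : ℂ) * (Nat.card C : ℂ) else 0 := by
      simp only [map_sum, Finset.sum_mul, Finset.mul_sum]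
      rw [Finset.sum_comm, Finset.sum_congr rfl fun y' _ => Finset.sum_comm]
      rw [Finset.sum_congr rfl (g := fun y => if k = l then (Nat.card C : ℂ) else 0) fun y hy => ?_]
      · split <;> simp
      obtain ⟨hy1, hy2⟩ := memF.mp hy
      rw [Finset.sum_congr rfl (g := fun y' => if IsConj y y' then
        (Nat.card (Subgroup.centralizer ({y} : Set C)) : ℂ) else 0) fun y' hy' => ?_]
      · rw [← Finset.sum_filter, Finset.sum_const, nsmul_eq_mul]
        by_cases hkl : k = l
        · subst hkl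
          rw [if_pos rfl, ← card_centralizer_mul_index y, index_centralizer_eq_card,
            Nat.card_eq_fintype_card (α := {h : C // IsConj y h}), Fintype.card_subtype, Nat.cast_mul,
            mul_comm]
          congr 3
          ext y'
          simp only [Finset.mem_filter, Finset.mem_univ, true_and, memF]
          refine ⟨fun h => h.2, fun h => ⟨?_, h⟩⟩
          obtain ⟨c, rfl⟩ := isConj_iff.mp h
          refine ⟨by rw [Transfer.orderOf_conj]; exact hy1, (hkiff _ _).mpr ?_⟩
          rw [map_mul, map_mul, map_inv, mul_comm (sec.lam c), mul_inv_cancel_right]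
          exact (hkiff y _).mp hy2
        · rw [if_neg hkl, Finset.filter_false_of_mem (fun y' hy' h => hkl ?_), Finset.card_empty,
            Nat.cast_zero, zero_mul]
          obtain ⟨c, rfl⟩ := isConj_iff.mp h
          refine hω k l ?_
          rw [← (hkiff y k).mp hy2, ← (hkiff _ l).mp (memF.mp hy').2, map_mul, map_mul, map_inv,
            mul_comm (sec.lam c), mul_inv_cancel_right]
      obtain ⟨hy'1, -⟩ := memF.mp hy'
      rw [Finset.sum_congr rfl fun χ _ => mul_comm _ _, Char.column_orthogonality]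
      simp only [hclass y hy1 y' hy'1]
      by_cases h : IsConj y y'
      · rw [if_pos h, if_pos h, hcent y' hy'1, Char.card_centralizer_eq_of_isConj h]
      · rw [if_neg h, if_neg h]
    rw [h2] at h1
    have hC24 : (Nat.card C : ℂ) = 24 * sec.m := by rw [sec.card_eq]; push_cast; rfl
    have hm0 : (sec.m : ℂ) ≠ 0 := Nat.cast_ne_zero.mpr sec.m_pos.ne'
    by_cases hkl : k = l
    · subst hkl
      rw [if_pos rfl] at h1 ⊢
      have h3 := (mul_left_cancel₀ (hFpos k) h1).symm
      rw [hFcard, hC24] at h3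
      split_ifs at h3 ⊢ with h0
      · exact mul_left_cancel₀ hm0 (h3.trans (mul_comm _ _))
      · push_cast at h3
        exact mul_left_cancel₀ (mul_ne_zero (by norm_num : (4 : ℂ) ≠ 0) hm0) (h3.trans (by ring))
    · rw [if_neg hkl] at h1 ⊢
      exact (mul_eq_zero.mp ((mul_eq_zero.mp h1.symm).resolve_left (hFpos k))).resolve_left (hFpos l)
  -- degrees
  have hdeg : ∀ k, ∑ χ ∈ B, (χ : G → ℂ) 1 * w k χ = 0 := by
    intro k
    have h1 := hall (fun χ => (χ : G → ℂ) 1) k
    have h2 : ∑ χ : IrrCharacter G, (χ : G → ℂ) 1 * ∑ y ∈ F k, (χ : G → ℂ) (t * (y : G)) = 0 := by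
      simp only [Finset.mul_sum]
      rw [Finset.sum_comm]
      refine Finset.sum_eq_zero fun y hy => ?_
      have h := Char.column_orthogonality (t * (y : G)) (1 : G)
      rw [if_neg (fun h' => ?_)] at h
      · rw [← h]
        refine Finset.sum_congr rfl fun χ _ => ?_
        rw [(irr_degree_eq χ).1, Complex.conj_natCast, mul_comm]
      · have he := isConj_one_left.mp h'
        have : orderOf y = 2 := by
          rw [← Subgroup.orderOf_coe, show (y : G) = t⁻¹ from (inv_eq_of_mul_eq_one_right he).symm, hti,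
            hto]
        exact (memF.mp hy).1 (by rw [this])
    rw [h2] at h1
    exact (mul_eq_zero.mp h1.symm).resolve_left (hFpos k)
  -- the class of `t` gives no product at the other two fibres
  have hweight : ∀ k : Fin 3, k ≠ 0 →
      ∑ χ ∈ B, (χ : G → ℂ) t * conj ((χ : G → ℂ) t) / (χ : G → ℂ) 1 * w k χ = 0 := by
    intro k hk
    have h1 := hall (fun χ => (χ : G → ℂ) t * conj ((χ : G → ℂ) t) / (χ : G → ℂ) 1) k
    set c : ℂ := ∑ g : G, classInd t g with hc
    have hc0 : c ≠ 0 := by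
      rw [hc]
      simp only [classInd, Finset.sum_boole, Nat.cast_ne_zero]
      exact Finset.card_ne_zero.mpr ⟨t, Finset.mem_filter.mpr ⟨Finset.mem_univ _, IsConj.refl t⟩⟩
    have h2 : ∀ y ∈ F k, ∑ χ : IrrCharacter G,
        (χ : G → ℂ) t * conj ((χ : G → ℂ) t) / (χ : G → ℂ) 1 * (χ : G → ℂ) (t * (y : G)) = 0 := by
      intro y hy
      obtain ⟨hy1, hy2⟩ := memF.mp hy
      have hno : ∀ s : G, IsConj t s → ¬ IsConj (s * (t * (y : G))) t := by
        intro s hs hu
        have sq : ∀ u : G, IsConj t u → u * u = 1 := fun u hu => by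
          obtain ⟨a, rfl⟩ := isConj_iff.mp hu
          rw [show a * t * a⁻¹ * (a * t * a⁻¹) = a * (t * t) * a⁻¹ by group, ht2, mul_one, mul_inv_cancel]
        have hs2 := sq s hs
        have hsi : s⁻¹ = s := inv_eq_of_mul_eq_one_right hs2
        have hinv : s * (t * (y : G)) * s⁻¹ = t * ((y⁻¹ : C) : G) := by
          have h3 := sq _ hu.symm
          rw [hsi]
          refine (eq_inv_of_mul_eq_one_left (a := s * (t * (y : G)) * s) (b := t * (y : G))
            (by simpa only [mul_assoc] using h3)).trans ?_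
          rw [mul_inv_rev, hti, InvMemClass.coe_inv]
          exact ((hcomm y).inv_right.eq).symm
        obtain ⟨e1, e2⟩ := part_unique hx (hcomm y) (by rwa [Subgroup.orderOf_coe]) (hcomm y⁻¹)
          (by rwa [Subgroup.orderOf_coe, orderOf_inv]) hinv
        let s' : C := ⟨s, Subgroup.mem_centralizer_singleton_iff.mpr e1⟩
        have e3 : s' * y * s'⁻¹ = y⁻¹ := Subtype.ext e2
        have e4 := congrArg sec.lam e3
        rw [map_mul, map_mul, map_inv, map_inv, sec.lam_invol s' (Subtype.ext hs2), one_mul, inv_one,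
          mul_one, eq_inv_iff_mul_eq_one, (hkiff y k).mp hy2, ← pow_add] at e4
        have h5 : z ^ ((k : ℕ) + (k : ℕ)) = 1 := by
          rw [hzdef, ← Units.val_pow_eq_pow_val, e4, Units.val_one]
        fin_cases k
        · exact hk rfl
        · have h6 : z ^ 2 = 1 := h5
          exact hz1 (by linear_combination -z * h6 + hz3)
        · have h6 : z ^ 4 = 1 := h5
          exact hz1 (by linear_combination h6 - z * hz3)
      have h3 : ∑ χ : IrrCharacter G, conj ((χ : G → ℂ) t) *
          (omega (χ : G → ℂ) (classInd t) * (χ : G → ℂ) (t * (y : G))) = 0 := by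
        simp only [← sum_mul_irr_mul (isClassFunction_classInd t), Finset.mul_sum]
        rw [Finset.sum_comm]
        refine Finset.sum_eq_zero fun s _ => ?_
        by_cases hs : IsConj t s
        · have h4 := Char.column_orthogonality (s * (t * (y : G))) t
          rw [if_neg (hno s hs)] at h4
          rw [← mul_zero (classInd t s), ← h4, Finset.mul_sum]
          exact Finset.sum_congr rfl fun χ _ => by ring
        · exact Finset.sum_eq_zero fun χ _ => by rw [show classInd t s = 0 from if_neg hs]; ring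
      have hom : ∀ χ : IrrCharacter G,
          omega (χ : G → ℂ) (classInd t) = c * (χ : G → ℂ) t / (χ : G → ℂ) 1 := by
        intro χ
        rw [omega, hc, Finset.sum_mul]
        congr 1
        refine Finset.sum_congr rfl fun g _ => ?_
        by_cases hg : IsConj t g
        · rw [IsClassFunction.eq_of_isConj (irr_classFunction χ) hg]
        · rw [show classInd t g = 0 from if_neg hg, zero_mul, zero_mul]
      refine (mul_eq_zero.mp (Eq.trans ?_ h3)).resolve_left hc0
      rw [Finset.mul_sum]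
      exact Finset.sum_congr rfl fun χ _ => by rw [hom]; ring
    simp only [Finset.mul_sum] at h1
    rw [Finset.sum_comm, Finset.sum_eq_zero h2, ← Finset.mul_sum] at h1
    exact (mul_eq_zero.mp h1.symm).resolve_left (hFpos k)
  -- the coefficients are integral
  have hint : ∀ i : Fin 3, ∀ χ ∈ B, ∃ d : ℤ, coef z (fun k => w k χ) i = d := by
    intro i χ hχ
    set A := Subgroup.zpowers sec.h with hA
    let t' : C := ⟨t, Subgroup.mem_centralizer_singleton_iff.mpr rfl⟩
    have ht' : orderOf t' = 2 := by rw [Subgroup.orderOf_mk, hto]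
    have hct : ∀ c : C, Commute t' c := fun c => Subtype.ext (hcomm c).eq
    let f : ↥(Subgroup.zpowers t') × ↥A →* C :=
      MonoidHom.noncommCoprod (Subgroup.zpowers t').subtype A.subtype fun a b => by
        obtain ⟨j, hj⟩ := Subgroup.mem_zpowers_iff.mp a.2
        show Commute (a : C) (b : C)
        rw [← hj]
        exact (hct b).zpow_left j
    have hf : ∀ a b, f (a, b) = (a : C) * (b : C) := fun _ _ => rfl
    letI : Fintype ↥A := Fintype.ofFinite _
    letI : Fintype ↥(Subgroup.zpowers t') := Fintype.ofFinite _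
    have hχc := Char.isCharacter_of_isIrr χ.2
    obtain ⟨m₁, hm₁⟩ := Char.exists_nat_classInner (Char.isCharacter_comp (C.subtype.comp f) hχc)
      (Char.isCharacter_monoidHom ((sec.lam ^ (i : ℕ)).comp f))
    obtain ⟨m₂, hm₂⟩ := Char.exists_nat_classInner (Char.isCharacter_comp (C.subtype.comp A.subtype) hχc)
      (Char.isCharacter_monoidHom ((sec.lam ^ (i : ℕ)).comp A.subtype))
    have huniv : (Finset.univ : Finset ↥(Subgroup.zpowers t')) =
        {1, ⟨t', Subgroup.mem_zpowers t'⟩} := by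
      symm
      refine Finset.eq_univ_of_card _ ?_
      rw [Finset.card_pair (fun e => ?_), ← Nat.card_eq_fintype_card, Nat.card_zpowers, ht']
      have := congrArg (fun a : ↥(Subgroup.zpowers t') => ((a : C) : G)) e
      exact ht1 this.symm
    have hcard : Nat.card (↥(Subgroup.zpowers t') × ↥A) = 2 * Nat.card A := by
      rw [Nat.card_prod, Nat.card_zpowers, ht']
    have hlt : sec.lam t' = 1 := sec.lam_invol t' (Subtype.ext ht2)
    have hA0 : (Nat.card A : ℂ) ≠ 0 := Nat.cast_ne_zero.mpr Nat.card_pos.ne'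
    have hne : (1 : ↥(Subgroup.zpowers t')) ≠ ⟨t', Subgroup.mem_zpowers t'⟩ := fun e =>
      ht1 (congrArg (fun a : ↥(Subgroup.zpowers t') => ((a : C) : G)) e).symm
    set S₀ := ∑ a : A, (χ : G → ℂ) ((a : C) : G) * conj ((sec.lam (a : C) : ℂ) ^ (i : ℕ))
    set S₁ := ∑ a : A, (χ : G → ℂ) (t * ((a : C) : G)) * conj ((sec.lam (a : C) : ℂ) ^ (i : ℕ))
      with hS₁
    have e1 : (2 * Nat.card A : ℂ) * m₁ = S₀ + S₁ := by
      rw [← hm₁, classInner, hcard, Nat.cast_mul, Nat.cast_ofNat,
        mul_inv_cancel_left₀ (mul_ne_zero two_ne_zero hA0), Fintype.sum_prod_type, huniv,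
        Finset.sum_pair hne]
      simp [hf, hlt, t', S₀, S₁]
    have e2 : (Nat.card A : ℂ) * m₂ = S₀ := by
      rw [← hm₂, classInner, mul_inv_cancel_left₀ hA0]
      simp [S₀]
    have hAreg : ∀ a : A, ¬ 2 ∣ orderOf (a : C) := fun a hd => by
      obtain ⟨j, hj⟩ := Subgroup.mem_zpowers_iff.mp a.2
      exact sec.h_reg (hd.trans (hj ▸ orderOf_dvd_of_pow_eq_one (by
        rw [← zpow_natCast, ← zpow_mul, mul_comm, zpow_mul, zpow_natCast, pow_orderOf_eq_one, one_zpow])))
    have e3 : S₁ = (Nat.card A : ℂ) * coef z (fun k => w k χ) i := by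
      rw [hS₁, Finset.sum_congr rfl (g := fun a : A => ∑ j : Fin 3, coef z (fun k => w k χ) j *
        ((sec.lam (a : C) : ℂ) ^ ((j : ℕ) + 2 * (i : ℕ)))) fun a _ => ?_, Finset.sum_comm,
        Finset.sum_eq_single i]
      · rw [← Finset.mul_sum, Finset.sum_congr rfl (g := fun _ => (1 : ℂ)) fun a _ => ?_,
          Finset.sum_const, Finset.card_univ, nsmul_eq_mul, mul_one, ← Nat.card_eq_fintype_card, mul_comm]
        rw [hkk (a : C), Units.val_pow_eq_pow_val, ← pow_mul,
          show (kk (a : C) : ℕ) * ((i : ℕ) + 2 * i) = 3 * ((kk (a : C) : ℕ) * i) by ring, pow_mul, hz3,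
          one_pow]
      · intro j _ hj
        rw [← Finset.mul_sum]
        refine mul_eq_zero_of_right _ ?_
        have hsum := sum_hom_units_eq_zero (R := ℂ) ((Units.coeHom ℂ).comp
          ((sec.lam ^ ((j : ℕ) + 2 * i)).comp A.subtype)) fun h => ?_
        · exact (Finset.sum_congr rfl fun a _ => by simp).trans hsum
        · have h' := DFunLike.congr_fun h ⟨sec.h, Subgroup.mem_zpowers _⟩
          simp [sec.lam_h, ← hzdef] at h'
          rw [pow_reduce hz3] at h'
          refine hj (Fin.ext ?_)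
          have := j.2
          have := i.2
          have hmod : ((j : ℕ) + 2 * i) % 3 = 0 := by
            have hlt' := Nat.mod_lt ((j : ℕ) + 2 * i) (show 3 > 0 by norm_num)
            by_contra hne'
            interval_cases hr : ((j : ℕ) + 2 * i) % 3
            · exact hne' rfl
            · exact hz1 (by simpa using h')
            · exact hz1 (by linear_combination -z * h' + hz3)
          omega
      · intro h; exact absurd (Finset.mem_univ i) h
      · rw [hkk (a : C), Units.val_pow_eq_pow_val, ← hzdef,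
          hval χ hχ (kk (a : C)) (a : C) (memF.mpr ⟨hAreg a, rfl⟩)]
        conv_lhs => rw [← sum_coef hz hz3 (fun k => w k χ) (kk (a : C))]
        rw [Finset.sum_mul]
        refine Finset.sum_congr rfl fun j _ => ?_
        rw [map_pow, map_pow, hzc, mul_assoc]
        simp only [← pow_mul, ← pow_add]
        congr 2
        ring
    refine ⟨2 * (m₁ : ℤ) - m₂, mul_left_cancel₀ hA0 ?_⟩
    push_cast
    linear_combination -e3 - e1 + e2
  choose! d hd using hint
  have hconjd : ∀ (i : Fin 3), ∀ χ ∈ B, conj (coef z (fun k => w k χ) i) = coef z (fun k => w k χ) i :=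
    fun i χ hχ => by rw [hd i χ hχ, map_intCast]
  have hwd : ∀ χ ∈ B, ∀ k : Fin 3, w k χ = ∑ j : Fin 3, (d j χ : ℂ) * z ^ ((j : ℕ) * (k : ℕ)) :=
    fun χ hχ k => by
      rw [← sum_coef hz hz3 (fun k => w k χ) k]
      exact Finset.sum_congr rfl fun j _ => by rw [hd j χ hχ]
  have hwt : ∀ χ, w 0 χ = (χ : G → ℂ) t := fun χ => by simp [hw]
  have hv : ∀ χ ∈ B, (χ : G → ℂ) t = ((d 0 χ + d 1 χ + d 2 χ : ℤ) : ℂ) := fun χ hχ => by
    rw [← hwt, hwd χ hχ 0, Fin.sum_univ_three]
    push_cast
    simp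
  set n : IrrCharacter G → ℕ := fun χ => charDegree (χ : G → ℂ)
  have hn : ∀ χ : IrrCharacter G, (χ : G → ℂ) 1 = (n χ : ℂ) := fun χ => (irr_degree_eq χ).1
  have ho : trivIrr G ∈ B := memB.mpr (trivIrr_mem_principalBlock G)
  have ho1 : ∀ i, coef z (fun k => w k (trivIrr G)) i = if i = 0 then 1 else 0 := fun i => by
    fin_cases i <;> norm_num [coef, hw, trivIrr, Fin.sum_univ_three, pow_reduce hz3 4, pow_reduce hz3 8]
      <;> (first | linear_combination (1 / 3 : ℂ) * hz | linear_combination hz)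
  have hd0 : ∀ i, d i (trivIrr G) = if i = 0 then 1 else 0 := fun i => by
    have h := (hd i _ ho).symm.trans (ho1 i)
    split_ifs at h ⊢ <;> exact_mod_cast h
  refine Rows.absurd (S := B) (o := trivIrr G) (d := d) (n := n) ?_
  refine
    { mem := ho
      pos := fun χ _ => (irr_degree_eq χ).2
      one := fun χ _ h1 => ?_
      triv := ?_
      triv0 := by simpa using hd0 0
      triv1 := by simpa using hd0 1
      triv2 := by simpa using hd0 2
      deg := fun i => ?_
      gram := fun i j => ?_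
      mult := fun χ hχ => ?_
      weight := ?_ }
  · have hdeg1 : (χ : G → ℂ) 1 = 1 := by rw [hn, h1, Nat.cast_one]
    set f := Char.linearHom (Char.isCharacter_of_isIrr χ.2) hdeg1
    rcases (f.normal_ker).eq_bot_or_eq_top with h | h
    · refine absurd ⟨⟨fun a b => (MonoidHom.ker_eq_bot_iff f).mp h ?_⟩⟩ hG
      rw [map_mul, map_mul, mul_comm]
    · refine Subtype.ext (funext fun g => ?_)
      rw [← Char.linearHom_apply (Char.isCharacter_of_isIrr χ.2) hdeg1 g,
        MonoidHom.mem_ker.mp (h ▸ Subgroup.mem_top g : g ∈ f.ker)]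
      simp [trivIrr]
  · have := hn (trivIrr G)
    simp [trivIrr] at this
    exact_mod_cast this.symm
  · have key : ∑ χ ∈ B, (χ : G → ℂ) 1 * coef z (fun k => w k χ) i = 0 := by
      simp only [coef, Finset.sum_div, Finset.mul_sum]
      rw [Finset.sum_comm]
      refine Finset.sum_eq_zero fun k _ => ?_
      have e : ∀ χ : IrrCharacter G, (χ : G → ℂ) 1 * (w k χ * z ^ (2 * ((i : ℕ) * k)) / 3) =
          z ^ (2 * ((i : ℕ) * k)) / 3 * ((χ : G → ℂ) 1 * w k χ) := fun χ => by ring
      rw [Finset.sum_congr rfl fun χ _ => e χ, ← Finset.mul_sum, hdeg k, mul_zero]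
    rw [Finset.sum_congr rfl fun χ hχ => by rw [hd i χ hχ, hn χ]] at key
    exact_mod_cast key
  · have key : ∑ χ ∈ B, coef z (fun k => w k χ) i * conj (coef z (fun k => w k χ) j) =
        if i = j then 4 else 2 := by
      simp only [coef, map_div₀, map_sum, map_mul, map_pow, hzc, map_ofNat, Finset.sum_mul_sum,
        div_mul_div_comm, ← Finset.sum_div]
      rw [Finset.sum_comm, Finset.sum_congr rfl fun k _ => Finset.sum_comm]
      have e : ∀ k l : Fin 3, ∑ χ ∈ B, w k χ * z ^ (2 * ((i : ℕ) * k)) *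
          (conj (w l χ) * (z ^ 2) ^ (2 * ((j : ℕ) * l))) =
          z ^ (2 * ((i : ℕ) * k)) * (z ^ 2) ^ (2 * ((j : ℕ) * l)) *
            if k = l then (if k = 0 then 24 else 6) else 0 := fun k l => by
        rw [← horth k l, Finset.mul_sum]
        exact Finset.sum_congr rfl fun χ _ => by ring
      simp only [e]
      simp only [if_neg (show (2 : Fin 3) ≠ 0 by decide), if_neg (show (1 : Fin 3) ≠ 0 by decide), mul_ite, mul_zero, Finset.sum_ite_eq, Finset.mem_univ, if_true, Fin.sum_univ_three,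
        ← pow_mul, ← pow_add]
      fin_cases i <;> fin_cases j <;> norm_num [pow_reduce hz3 4, pow_reduce hz3 6, pow_reduce hz3 8,
        pow_reduce hz3 10, pow_reduce hz3 12, pow_reduce hz3 16, pow_reduce hz3 20, pow_reduce hz3 24]
        <;> (first | linear_combination (0 : ℂ) * hz | linear_combination (2 / 3 : ℂ) * hz | linear_combination (-2 / 3 : ℂ) * hz)
    rw [Finset.sum_congr rfl fun χ hχ => by rw [hconjd j χ hχ, hd i χ hχ, hd j χ hχ]] at key
    split_ifs at key ⊢ <;> exact_mod_cast key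
  · letI : Fintype ↥(S : Subgroup G) := Fintype.ofFinite _
    obtain ⟨m, hm⟩ := Char.exists_nat_classInner
      (Char.isCharacter_restrict (S : Subgroup G) (Char.isCharacter_of_isIrr χ.2))
      (Char.isCharacter_monoidHom (1 : ↥(S : Subgroup G) →* ℂˣ))
    refine ⟨m, ?_⟩
    have e : (8 : ℂ) * m = (χ : G → ℂ) 1 + 7 * (χ : G → ℂ) t := by
      rw [← hm, classInner, hS8, Nat.cast_ofNat, mul_inv_cancel_left₀ (by norm_num : (8 : ℂ) ≠ 0),
        ← Finset.add_sum_erase _ _ (Finset.mem_univ (1 : ↥(S : Subgroup G))),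
        Finset.sum_congr rfl (g := fun _ => (χ : G → ℂ) t) fun u hu => ?_, Finset.sum_const,
        Finset.card_erase_of_mem (Finset.mem_univ _), Finset.card_univ, ← Nat.card_eq_fintype_card, hS8,
        nsmul_eq_mul]
      · norm_num
      · have hu1 : (u : G) ≠ 1 := fun e => Finset.ne_of_mem_erase hu (Subtype.ext e)
        simp [(IsClassFunction.eq_of_isConj (irr_classFunction χ) (hconj u u.2 hu1))]
    rw [hn, hv χ hχ] at e
    exact_mod_cast e.symm
  · have h1 := hweight 1 (by decide)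
    have h2 := hweight 2 (by decide)
    rw [Finset.sum_congr rfl fun χ hχ => by
      rw [hwd χ hχ, hv χ hχ, map_intCast, hn χ, Fin.sum_univ_three]] at h1 h2
    simp only [Fin.val_zero, Fin.val_one, Fin.val_two, mul_one, one_mul, zero_mul, pow_zero, pow_one,
      pow_reduce hz3 (2 * 2)] at h1 h2
    norm_num at h1 h2
    have key : ∑ χ ∈ B, (((d 0 χ + d 1 χ + d 2 χ) ^ 2 * (d 0 χ - d 1 χ) : ℤ) : ℂ) / (n χ : ℂ) = 0 := by
      refine ((mul_eq_zero (a := 1 - z)).mp ?_).resolve_left (sub_ne_zero.mpr (Ne.symm hz1))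
      have h12 := congrArg₂ (fun a b : ℂ => a - z * b) h1 h2
      simp only [mul_zero, sub_zero] at h12
      refine Eq.trans ?_ h12
      rw [Finset.mul_sum, Finset.mul_sum, ← Finset.sum_sub_distrib]
      refine Finset.sum_congr rfl fun χ _ => ?_
      push_cast
      linear_combination ((d 0 χ : ℂ) + d 1 χ + d 2 χ) ^ 2 / (n χ : ℂ) * (d 1 χ : ℂ) * hz3
    have key' : ((∑ χ ∈ B, (((d 0 χ + d 1 χ + d 2 χ) ^ 2 * (d 0 χ - d 1 χ) : ℤ) : ℚ) / (n χ : ℚ) : ℚ) : ℂ) =
        ((0 : ℚ) : ℂ) := by
      push_cast at key ⊢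
      exact key
    exact_mod_cast key'

end CfsgLib.EightSylow
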