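import Cfsg.Agent.Lib.EightSylow.Automizer
import Mathlib.RingTheory.RootsOfUnity.AlgebraicallyClosed

/-!
# The centralizer of an involution in the case of an automizer of order 21
-/

set_option autoImplicit false
set_option maxHeartbeats 800000

namespace CfsgLib.EightSylow

open Cfsg

variable {G : Type*} [Group G] [Finite G]

/-- What is used about the centralizer `C` of the involution. -/
structure Section (t : G) where
  lam : ↥(Subgroup.centralizer ({t} : Set G)) →* ℂˣ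
  h : ↥(Subgroup.centralizer ({t} : Set G))
  ω : ℂˣ
  m : ℕ
  m_pos : 0 < m
  card_eq : Nat.card ↥(Subgroup.centralizer ({t} : Set G)) = 24 * m
  ω_ne : ω ≠ 1
  ω_pow : ω ^ 3 = 1
  h_reg : ¬ 2 ∣ orderOf h
  lam_h : lam h = ω
  lam_reg : ∀ y, ∃ k : Fin 3, lam y = ω ^ (k : ℕ)
  lam_invol : ∀ u, u * u = 1 → lam u = 1
  lam_core : ∀ v ∈ pPrimeCore 2 ↥(Subgroup.centralizer ({t} : Set G)), lam v = 1
  fibre : ∀ k : Fin 3, Nat.card {y : ↥(Subgroup.centralizer ({t} : Set G)) //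
      ¬ 2 ∣ orderOf y ∧ lam y = ω ^ (k : ℕ)} = if k = 0 then m else 4 * m
  conj : ∀ y, ¬ 2 ∣ orderOf y → ∀ k : Fin 3, lam y = ω ^ (k : ℕ) →
    ∃ g, ∃ v ∈ pPrimeCore 2 ↥(Subgroup.centralizer ({t} : Set G)), y = g * h ^ (k : ℕ) * g⁻¹ * v

theorem exists_section (S : Sylow 2 G) (hab : IsMulCommutative (S : Subgroup G))
    (hS8 : Nat.card ↥(S : Subgroup G) = 8) (hA : Nat.card (act S).range = 21)
    (htrans : ∀ s ∈ (S : Subgroup G), ∀ u ∈ (S : Subgroup G), s ≠ 1 → u ≠ 1 →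
        ∃ g ∈ Subgroup.normalizer ((S : Subgroup G) : Set G), g * s * g⁻¹ = u)
    {t : G} (ht : t ∈ (S : Subgroup G)) (ht1 : t ≠ 1)
    (hsol : Group.IsSolvable ↥(Subgroup.centralizer ({t} : Set G))) : Nonempty (Section t) := by
  classical
  haveI : Fact (Nat.Prime 2) := ⟨Nat.prime_two⟩
  haveI : Fact (Nat.Prime 3) := ⟨Nat.prime_three⟩
  set C := Subgroup.centralizer ({t} : Set G) with hCdef
  have hcomm : ∀ a ∈ (S : Subgroup G), ∀ b ∈ (S : Subgroup G), a * b = b * a := fun a ha b hb =>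
    Subtype.ext_iff.mp (hab.is_comm.comm ⟨a, ha⟩ ⟨b, hb⟩)
  have hle : (S : Subgroup G) ≤ C := fun u hu => Subgroup.mem_centralizer_singleton_iff.mpr (hcomm u hu t ht)
  set S₀ : Sylow 2 ↥C := S.subtype hle with hS₀
  have hS₀mem : ∀ u : C, u ∈ (S₀ : Subgroup C) ↔ (u : G) ∈ (S : Subgroup G) := fun u => Iff.rfl
  haveI := Transfer.pPrimeCore_normal 2 (↥C)
  set O := pPrimeCore 2 ↥C with hOdef
  set π := QuotientGroup.mk' O with hπ
  have hsurj : Function.Surjective π := QuotientGroup.mk'_surjective O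
  have hOodd : ¬ 2 ∣ Nat.card O := Transfer.not_dvd_card_pPrimeCore
  have hSO : ∀ u : C, u ∈ (S₀ : Subgroup C) → u ∈ O → u = 1 := fun u h1 h2 =>
    PSolvable.eq_one_of_mem_of_mem S₀.isPGroup' (Transfer.pPrimeCore_coprime 2) h1 h2
  set T := (S₀ : Subgroup C).map π with hTdef
  have hC' := PSolvable.centralizer_pCore_le (p := 2) (PSolvable.isPSolvable_of_surjective π hsurj
    (PSolvable.isPSolvable_of_isSolvable hsol)) (PSolvable.pPrimeCore_eq_bot_of_ker hsurj (QuotientGroup.ker_mk' _))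
  have hTab : ∀ a ∈ T, ∀ b ∈ T, a * b = b * a := by
    rintro _ ⟨a, ha, rfl⟩ _ ⟨b, hb, rfl⟩
    rw [← map_mul, ← map_mul]
    exact congrArg π (Subtype.ext (hcomm _ ha _ hb))
  have hTcore : T = pCore 2 (↥C ⧸ O) := by
    have hRle : pCore 2 (↥C ⧸ O) ≤ T := by
      haveI := Fitting.pCore_normal (G := ↥C ⧸ O) 2
      have h := (Fitting.pCore_isPGroup (G := ↥C ⧸ O) 2).le_sylow_of_normal (Sylow.mapSurjective hsurj S₀)
      rwa [Sylow.coe_mapSurjective] at h
    refine le_antisymm (fun u hu => hC' (Subgroup.mem_centralizer_iff.mpr fun r hr => hTab _ (hRle hr) _ hu)) hRle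
  haveI hTn : T.Normal := hTcore ▸ Fitting.pCore_normal 2
  have hCT : ∀ u, (∀ a ∈ T, a * u = u * a) → u ∈ T := fun u hu => by
    rw [hTcore]
    exact hC' (Subgroup.mem_centralizer_iff.mpr fun a ha => hu a (by rw [hTcore]; exact ha))
  have hT8 : Nat.card T = 8 := by
    rw [hTdef, ← hS8]
    refine (Nat.card_congr (Equiv.ofBijective (fun u : (S₀ : Subgroup C) =>
      (⟨π u, Subgroup.mem_map_of_mem _ u.2⟩ : T)) ⟨fun a b e => ?_, fun a => ?_⟩)).symm.trans
      (Nat.card_congr (Subgroup.subgroupOfEquivOfLe hle).toEquiv)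
    · have e'' : π a = π b := congrArg Subtype.val e
      have e' : π ((a : C)⁻¹ * b) = 1 := by rw [map_mul, map_inv, e'', inv_mul_cancel]
      have := hSO _ (Subgroup.mul_mem _ (Subgroup.inv_mem _ a.2) b.2) ((QuotientGroup.eq_one_iff _).mp e')
      exact Subtype.ext (inv_mul_eq_one.mp this)
    · obtain ⟨u, hu, hua⟩ := a.2
      exact ⟨⟨u, hu⟩, Subtype.ext hua⟩
  -- the stabilizer of `t` in the automizer
  set N := Subgroup.normalizer ((S : Subgroup G) : Set G) with hN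
  set Hs := N.subgroupOf C with hHs
  let ia : Hs →* N :=
    { toFun := fun u => ⟨u.1.1, u.2⟩, map_one' := rfl, map_mul' := fun _ _ => rfl }
  set fa := (act S).comp ia with hfa
  set fb : Hs →* (↥C ⧸ O) ⧸ T := ((QuotientGroup.mk' T).comp π).comp Hs.subtype with hfb
  have hker : fa.ker = fb.ker := by
    ext u
    rw [MonoidHom.mem_ker, MonoidHom.mem_ker]
    show act S (ia u) = 1 ↔ QuotientGroup.mk' T (π u.1) = 1
    rw [QuotientGroup.mk'_apply, QuotientGroup.eq_one_iff]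
    constructor
    · intro h
      refine hCT _ ?_
      rintro _ ⟨a, ha, rfl⟩
      rw [← map_mul, ← map_mul]
      refine congrArg π (Subtype.ext ?_)
      have h' := congrArg Subtype.val (DFunLike.congr_fun h ⟨(a : G), ha⟩)
      show (a : G) * u.1.1 = u.1.1 * (a : G)
      exact (mul_inv_eq_iff_eq_mul.mp h').symm
    · intro h
      refine MulEquiv.ext fun s => Subtype.ext ?_
      let a : C := ⟨s.1, hle s.2⟩
      have ha : a ∈ (S₀ : Subgroup C) := s.2
      have hua : u.1 * a * u.1⁻¹ * a⁻¹ ∈ (S₀ : Subgroup C) := by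
        rw [hS₀mem]
        exact Subgroup.mul_mem _ ((Subgroup.mem_normalizer_iff.mp u.2 s.1).mp s.2) (Subgroup.inv_mem _ s.2)
      have h1 := hSO _ hua ((QuotientGroup.eq_one_iff _).mp (show π (u.1 * a * u.1⁻¹ * a⁻¹) = 1 by
        rw [map_mul, map_mul, map_mul, map_inv, map_inv,
          hTab _ h _ (Subgroup.mem_map_of_mem _ ha)]
        group))
      exact mul_inv_eq_one.mp (congrArg Subtype.val h1)
  have hfb_surj : Function.Surjective fb := by
    intro z
    obtain ⟨w, rfl⟩ := QuotientGroup.mk'_surjective T z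
    obtain ⟨c, rfl⟩ := hsurj w
    set K := T.comap π with hK
    have hSK : (S₀ : Subgroup C) ≤ K := fun u hu => Subgroup.mem_map_of_mem _ hu
    have hF : Subgroup.normalizer (((S₀.subtype hSK : Sylow 2 K) : Subgroup K).map K.subtype : Set C) ⊔ K = ⊤ :=
      Sylow.normalizer_sup_eq_top (S₀.subtype hSK)
    rw [show (((S₀.subtype hSK : Sylow 2 K) : Subgroup K).map K.subtype) = (S₀ : Subgroup C) from
      Subgroup.map_subgroupOf_eq_of_le hSK] at hF
    haveI : K.Normal := hTn.comap π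
    obtain ⟨u, hu, k, hk, hc⟩ := Subgroup.mem_sup_of_normal_right.mp
      (show c ∈ _ ⊔ K from hF ▸ Subgroup.mem_top c)
    have huN : u ∈ Hs := by
      rw [hHs, Subgroup.mem_subgroupOf, hN, Subgroup.mem_normalizer_iff]
      intro s
      constructor
      · intro hs
        exact (Subgroup.mem_normalizer_iff.mp hu ⟨s, hle hs⟩).mp hs
      · intro hs
        have h := (Subgroup.mem_normalizer_iff.mp (Subgroup.inv_mem _ hu) ⟨_, hle hs⟩).mp hs
        rw [hS₀mem] at h
        simpa [mul_assoc] using h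
    refine ⟨⟨u, huN⟩, ?_⟩
    show QuotientGroup.mk' T (π u) = QuotientGroup.mk' T (π c)
    rw [← hc, map_mul π, map_mul (QuotientGroup.mk' T),
      show QuotientGroup.mk' T (π k) = 1 from (QuotientGroup.eq_one_iff _).mpr hk, mul_one]
  have hfa3 : Nat.card fa.range = 3 := by
    let st := MulAction.stabilizer (act S).range (⟨t, ht⟩ : (S : Subgroup G))
    have horb : MulAction.orbit (act S).range (⟨t, ht⟩ : (S : Subgroup G)) = Set.univ \ {1} := by
      ext s
      constructor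
      · rintro ⟨a, rfl⟩
        refine ⟨trivial, fun e => ht1 ?_⟩
        exact congrArg Subtype.val ((EmbeddingLike.map_eq_one_iff (f := a.1)).mp e)
      · rintro ⟨-, hs⟩
        obtain ⟨g, hg, e⟩ := htrans t ht s.1 s.2 ht1 (fun e => hs (Subtype.ext e))
        exact ⟨⟨_, ⟨⟨g, hg⟩, rfl⟩⟩, Subtype.ext e⟩
    have hidx : st.index = 7 := by
      rw [MulAction.index_stabilizer, horb, Set.ncard_sdiff_singleton_of_mem (Set.mem_univ _), Set.ncard_univ, hS8]
    have hmul := st.card_mul_index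
    rw [hidx, hA] at hmul
    have hst : fa.range = st.map (act S).range.subtype := by
      ext a
      constructor
      · rintro ⟨u, rfl⟩
        refine ⟨⟨fa u, ⟨ia u, rfl⟩⟩, Subtype.ext ?_, rfl⟩
        show u.1.1 * t * u.1.1⁻¹ = t
        rw [Subgroup.mem_centralizer_singleton_iff.mp u.1.2]
        exact mul_inv_cancel_right _ _
      · rintro ⟨⟨_, n, rfl⟩, hb, rfl⟩
        have hn : n.1 * t * n.1⁻¹ = t := congrArg Subtype.val hb
        exact ⟨⟨⟨n.1, Subgroup.mem_centralizer_singleton_iff.mpr (mul_inv_eq_iff_eq_mul.mp hn)⟩, n.2⟩, rfl⟩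
    rw [hst, Subgroup.card_map_of_injective (act S).range.subtype_injective]
    omega
  have hQT : Nat.card ((↥C ⧸ O) ⧸ T) = 3 := by
    rw [← hfa3, ← Subgroup.index_ker fa, hker, Subgroup.index_ker, MonoidHom.range_eq_top.mpr hfb_surj,
      Subgroup.card_top]
  have hQ : Nat.card (↥C ⧸ O) = 24 := by rw [Subgroup.card_eq_card_quotient_mul_card_subgroup T, hQT, hT8]
  -- the linear character
  haveI : Nontrivial ((↥C ⧸ O) ⧸ T) := Finite.one_lt_card_iff_nontrivial.mp (by rw [hQT]; norm_num)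
  haveI : IsCyclic ((↥C ⧸ O) ⧸ T) := isCyclic_of_prime_card hQT
  letI : CommGroup ((↥C ⧸ O) ⧸ T) :=
    { (inferInstance : Group ((↥C ⧸ O) ⧸ T)) with mul_comm := IsCyclic.commGroup.mul_comm }
  obtain ⟨z, hz⟩ := exists_ne (1 : (↥C ⧸ O) ⧸ T)
  haveI : HasEnoughRootsOfUnity ℂ (Monoid.exponent ((↥C ⧸ O) ⧸ T)) := inferInstance
  obtain ⟨φ, hφ⟩ := CommGroup.exists_apply_ne_one_of_hasEnoughRootsOfUnity ((↥C ⧸ O) ⧸ T) ℂ hz
  have hφinj : Function.Injective φ := by
    rw [← MonoidHom.ker_eq_bot_iff]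
    rcases Subgroup.eq_bot_or_eq_top_of_prime_card φ.ker (hp := ⟨hQT ▸ Nat.prime_three⟩) with h | h
    · exact h
    · exact absurd (MonoidHom.mem_ker.mp (h ▸ Subgroup.mem_top z)) hφ
  set lamQ := φ.comp (QuotientGroup.mk' T) with hlamQ
  have hlamQ1 : ∀ x, lamQ x = 1 ↔ x ∈ T := fun x => by
    rw [hlamQ, MonoidHom.comp_apply, ← map_one φ, hφinj.eq_iff, QuotientGroup.mk'_apply, QuotientGroup.eq_one_iff]
  have hlamQ3 : ∀ x, lamQ x ^ 3 = 1 := fun x => by
    rw [hlamQ, MonoidHom.comp_apply, ← map_pow, ← hQT, pow_card_eq_one', map_one]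
  obtain ⟨x₀, hx₀⟩ := exists_prime_orderOf_dvd_card' 3 (show 3 ∣ Nat.card (↥C ⧸ O) by rw [hQ]; norm_num)
  obtain ⟨c₀, hc₀⟩ := hsurj x₀
  obtain ⟨a₀, _, -, -, hcop, -⟩ := Transfer.exists_pow_coprime_part (p := 2) c₀
  set h := c₀ ^ (2 ^ a₀) with hh
  have hreg : ¬ 2 ∣ orderOf h := fun hd => Nat.prime_two.ne_one (Nat.Coprime.eq_one_of_dvd hcop.symm hd)
  set x := π h with hx
  have hxord : orderOf x = 3 := by
    rw [hx, hh, map_pow, hc₀, Nat.Coprime.orderOf_pow]
    · exact hx₀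
    · rw [hx₀]; exact Nat.Coprime.pow_right _ (by norm_num)
  have hT3 : ∀ y, y ^ 3 = 1 → y ∈ T → y = 1 := by
    intro y hy hyT
    rw [← orderOf_eq_one_iff]
    have h1 : orderOf y ∣ 3 := orderOf_dvd_of_pow_eq_one hy
    have h2 : orderOf y ∣ 8 := by
      rw [← hT8, ← Subgroup.orderOf_mk y hyT]; exact orderOf_dvd_natCard _
    exact Nat.dvd_one.mp (by simpa using Nat.dvd_gcd h1 h2)
  have hxT : x ∉ T := fun hxT => by
    rw [hT3 x (hxord ▸ pow_orderOf_eq_one x) hxT, orderOf_one] at hxord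
    norm_num at hxord
  set ω := lamQ x with hω
  have hω1 : ω ≠ 1 := fun e => hxT ((hlamQ1 x).mp e)
  have hω3 : ω ^ 3 = 1 := hlamQ3 x
  have hcases : ∀ y, ∃ k : Fin 3, lamQ y = ω ^ (k : ℕ) := by
    intro y
    have hgen : QuotientGroup.mk' T y ∈ Subgroup.zpowers (QuotientGroup.mk' T x) :=
      mem_zpowers_of_prime_card (hp := ⟨Nat.prime_three⟩) hQT fun e => hxT ((QuotientGroup.eq_one_iff _).mp e)
    obtain ⟨j, hj⟩ := Subgroup.mem_zpowers_iff.mp hgen
    have hval : lamQ y = ω ^ j := by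
      rw [hω, hlamQ, MonoidHom.comp_apply, MonoidHom.comp_apply, ← map_zpow, hj]
    refine ⟨⟨(j % 3).toNat, by omega⟩, ?_⟩
    rw [hval, ← zpow_natCast, Int.toNat_of_nonneg (Int.emod_nonneg _ (by norm_num))]
    conv_lhs => rw [← Int.emod_add_mul_ediv j 3, zpow_add, zpow_mul, show ω ^ (3 : ℤ) = 1 by exact_mod_cast hω3,
      one_zpow, mul_one]
  -- the elements of order 3
  have hkinv : ∀ y, lamQ y⁻¹ = lamQ y ^ 2 := fun y => by
    rw [map_inv, inv_eq_iff_mul_eq_one, ← pow_succ', hlamQ3]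
  have hω2 : ω ^ 2 ≠ 1 := fun e => hω1 (by
    have := hω3
    rw [pow_succ, e, one_mul] at this
    exact this)
  set X := {y : ↥C ⧸ O // y ^ 3 = 1 ∧ lamQ y = ω} with hX
  have hXord : ∀ y : X, orderOf y.1 = 3 := fun y => orderOf_eq_prime y.2.1 fun e => hω1 (by
    rw [← y.2.2, e, map_one])
  have hP3 : ∀ P : Sylow 3 (↥C ⧸ O), Nat.card (P : Subgroup (↥C ⧸ O)) = 3 := fun P => by
    rw [P.card_eq_multiplicity, hQ, show Nat.factorization 24 3 = 1 by
      rw [show (24 : ℕ) = 3 * 8 by norm_num, Nat.factorization_mul (by norm_num) (by norm_num),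
        Finsupp.add_apply, Nat.Prime.factorization_self Nat.prime_three,
        Nat.factorization_eq_zero_of_not_dvd (by norm_num)], pow_one]
  have hmult : 3 ^ (Nat.card (↥C ⧸ O)).factorization 3 = 3 :=
    ((default : Sylow 3 (↥C ⧸ O)).card_eq_multiplicity).symm.trans (hP3 _)
  have hXsyl : Nat.card X = Nat.card (Sylow 3 (↥C ⧸ O)) := by
    refine Nat.card_eq_of_bijective (fun y => Sylow.ofCard (Subgroup.zpowers y.1)
      (by rw [Nat.card_zpowers, hXord y, hmult])) ⟨fun y z e => ?_, fun P => ?_⟩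
    · have e' : Subgroup.zpowers y.1 = Subgroup.zpowers z.1 := congrArg (fun P : Sylow 3 (↥C ⧸ O) => (P : Subgroup (↥C ⧸ O))) e
      obtain ⟨j, hj⟩ := (mem_powers_iff_mem_zpowers).mpr (e' ▸ Subgroup.mem_zpowers z.1 : z.1 ∈ Subgroup.zpowers y.1)
      apply Subtype.ext
      simp only at hj
      rw [← hj, ← pow_mod_orderOf, hXord y]
      have hlt := Nat.mod_lt j (show 3 > 0 by norm_num)
      have hl := z.2.2
      rw [← hj, ← pow_mod_orderOf, hXord y, map_pow, y.2.2] at hl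
      interval_cases hr : j % 3
      · exact absurd (by rw [← hl, pow_zero]) hω1
      · exact (pow_one _).symm
      · exact absurd (mul_left_cancel (show ω * ω = ω * 1 by rw [mul_one, ← sq, hl])) hω1
    · haveI : Nontrivial (P : Subgroup (↥C ⧸ O)) := Finite.one_lt_card_iff_nontrivial.mp (by rw [hP3]; norm_num)
      obtain ⟨y, hy⟩ := exists_ne (1 : (P : Subgroup (↥C ⧸ O)))
      have hy3 : (y.1) ^ 3 = 1 := by
        have := congrArg Subtype.val (pow_card_eq_one' (x := y))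
        rwa [hP3] at this
      have hy0 : y.1 ∉ T := fun hyT => hy (Subtype.ext (hT3 _ hy3 hyT))
      have hgen : ∀ w : ↥C ⧸ O, w ∈ (P : Subgroup (↥C ⧸ O)) → w ^ 3 = 1 → lamQ w = ω →
          ∃ z : X, Sylow.ofCard (Subgroup.zpowers z.1) (by rw [Nat.card_zpowers, hXord z, hmult]) = P := by
        intro w hw h3 hl
        refine ⟨⟨w, h3, hl⟩, Sylow.ext (Subgroup.eq_of_le_of_card_ge (Subgroup.zpowers_le.mpr hw) ?_)⟩
        rw [hP3, Sylow.coe_ofCard, Nat.card_zpowers]
        exact (hXord ⟨w, h3, hl⟩).ge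
      obtain ⟨k, hk⟩ := hcases y.1
      fin_cases k
      · exact absurd ((hlamQ1 _).mp (by simpa using hk)) hy0
      · exact hgen _ y.2 hy3 (by simpa using hk)
      · refine hgen _ (inv_mem y.2) (by rw [inv_pow, hy3, inv_one]) ?_
        rw [hkinv, hk, ← pow_mul]
        show ω ^ (2 * 2) = ω
        rw [show 2 * 2 = 3 + 1 by norm_num, pow_succ, hω3, one_mul]
  have hn3 : Nat.card (Sylow 3 (↥C ⧸ O)) = 4 := by
    have hmod : Nat.card (Sylow 3 (↥C ⧸ O)) ≡ 1 [MOD 3] := card_sylow_modEq_one 3 _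
    have hdvd : Nat.card (Sylow 3 (↥C ⧸ O)) ∣ 8 := by
      have h1 := Sylow.card_dvd_index (default : Sylow 3 (↥C ⧸ O))
      have h2 := ((default : Sylow 3 (↥C ⧸ O)) : Subgroup (↥C ⧸ O)).card_mul_index
      rw [hP3, hQ] at h2
      rwa [show ((default : Sylow 3 (↥C ⧸ O)) : Subgroup (↥C ⧸ O)).index = 8 by omega] at h1
    have hne : Nat.card (Sylow 3 (↥C ⧸ O)) ≠ 1 := by
      intro h1
      haveI : Subsingleton (Sylow 3 (↥C ⧸ O)) := (Nat.card_eq_one_iff_unique.mp h1).1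
      have hxP : IsPGroup 3 (Subgroup.zpowers x) := IsPGroup.of_card (n := 1) (by rw [Nat.card_zpowers, hxord, pow_one])
      obtain ⟨P, hP⟩ := hxP.exists_le_sylow
      haveI : (P : Subgroup (↥C ⧸ O)).Normal := Sylow.normal_of_subsingleton P
      refine hxT (hCT x fun a ha => ?_)
      have hd : Disjoint T (P : Subgroup (↥C ⧸ O)) := by
        rw [disjoint_iff, eq_bot_iff]
        rintro u ⟨hu1, hu2⟩
        refine Subgroup.mem_bot.mpr (hT3 u ?_ hu1)
        have := congrArg Subtype.val (pow_card_eq_one' (x := (⟨u, hu2⟩ : (P : Subgroup (↥C ⧸ O)))))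
        rwa [hP3] at this
      exact Subgroup.commute_of_normal_of_disjoint _ _ hTn inferInstance hd a x ha (hP (Subgroup.mem_zpowers x))
    have h8 : Nat.card (Sylow 3 (↥C ⧸ O)) ∈ Nat.divisors 8 := Nat.mem_divisors.mpr ⟨hdvd, by norm_num⟩
    rw [show Nat.divisors 8 = {1, 2, 4, 8} by decide] at h8
    simp only [Finset.mem_insert, Finset.mem_singleton] at h8
    unfold Nat.ModEq at hmod
    omega
  have hXconj : ∀ y : X, ∃ g, y.1 = g * x * g⁻¹ := by
    intro y
    have hxX : x ^ 3 = 1 := hxord ▸ pow_orderOf_eq_one x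
    let P : X → Sylow 3 (↥C ⧸ O) := fun z => Sylow.ofCard (Subgroup.zpowers z.1)
      (by rw [Nat.card_zpowers, hXord z, hmult])
    obtain ⟨g, hg⟩ := MulAction.exists_smul_eq (↥C ⧸ O) (P ⟨x, hxX, rfl⟩) (P y)
    refine ⟨g, ?_⟩
    have hgx : g * x * g⁻¹ ∈ Subgroup.zpowers y.1 := by
      have : g * x * g⁻¹ ∈ ((g • P ⟨x, hxX, rfl⟩ : Sylow 3 (↥C ⧸ O)) : Subgroup (↥C ⧸ O)) := by
        rw [Sylow.coe_subgroup_smul, Subgroup.mem_pointwise_smul_iff_inv_smul_mem]
        simp [P, MulAut.conj, MulAut.smul_def, mul_assoc]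
      rwa [hg] at this
    obtain ⟨j, hj⟩ := mem_powers_iff_mem_zpowers.mpr hgx
    simp only at hj
    have hlt := Nat.mod_lt j (show 3 > 0 by norm_num)
    have hl : lamQ (g * x * g⁻¹) = ω := by rw [map_mul, map_mul, map_inv, mul_comm, inv_mul_cancel_left]
    rw [← hj, ← pow_mod_orderOf, hXord y, map_pow, y.2.2] at hl
    rw [← hj, ← pow_mod_orderOf, hXord y]
    interval_cases hr : j % 3
    · exact absurd (by rw [← hl, pow_zero]) hω1
    · exact (pow_one _).symm
    · exact absurd (mul_left_cancel (show ω * ω = ω * 1 by rw [mul_one, ← sq, hl])) hω1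
  -- regular elements
  have hregiff : ∀ y : C, ¬ 2 ∣ orderOf y ↔ π y ^ 3 = 1 := by
    intro y
    constructor
    · intro hy
      have h1 : orderOf (π y) ∣ 2 ^ 3 * 3 := by
        rw [show (2 : ℕ) ^ 3 * 3 = 24 by norm_num, ← hQ]; exact orderOf_dvd_natCard _
      have h2 : (orderOf (π y)).Coprime (2 ^ 3) := Nat.Coprime.pow_right 3
        ((Nat.prime_two.coprime_iff_not_dvd.mpr fun hd => hy (hd.trans (orderOf_map_dvd π y))).symm)
      exact orderOf_dvd_iff_pow_eq_one.mp (h2.dvd_of_dvd_mul_left h1)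
    · intro hy hd
      have h3 : y ^ 3 ∈ O := (QuotientGroup.eq_one_iff _).mp (by rw [← QuotientGroup.mk'_apply, map_pow]; exact hy)
      have hd2 : orderOf y ∣ 3 * Nat.card O := by
        refine orderOf_dvd_of_pow_eq_one ?_
        rw [pow_mul]
        exact congrArg Subtype.val (pow_card_eq_one' (x := (⟨y ^ 3, h3⟩ : O)))
      exact hOodd ((Nat.Coprime.dvd_of_dvd_mul_left (by norm_num) (hd.trans hd2)))
  set m := Nat.card O with hm
  have hfib : ∀ k : Fin 3, Nat.card {y : C // ¬ 2 ∣ orderOf y ∧ lamQ (π y) = ω ^ (k : ℕ)} =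
      m * Nat.card {y : ↥C ⧸ O // y ^ 3 = 1 ∧ lamQ y = ω ^ (k : ℕ)} := by
    intro k
    rw [hm, ← Nat.card_prod]
    refine (Nat.card_congr (Equiv.subtypeEquivRight fun y => by rw [hregiff y]; rfl)).trans
      (Nat.card_congr (QuotientGroup.preimageMkEquivSubgroupProdSet O
        {y : ↥C ⧸ O | y ^ 3 = 1 ∧ lamQ y = ω ^ (k : ℕ)}))
  have hc0 : Nat.card {y : ↥C ⧸ O // y ^ 3 = 1 ∧ lamQ y = 1} = 1 := by
    rw [Nat.card_eq_one_iff_exists]
    exact ⟨⟨1, one_pow 3, map_one _⟩, fun y => Subtype.ext (hT3 y.1 y.2.1 ((hlamQ1 _).mp y.2.2))⟩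
  have hc2 : Nat.card {y : ↥C ⧸ O // y ^ 3 = 1 ∧ lamQ y = ω ^ 2} = 4 := by
    rw [← hn3, ← hXsyl]
    refine Nat.card_congr ((Equiv.inv _).subtypeEquiv fun y => ?_)
    simp only [Equiv.inv_apply, inv_pow, inv_eq_one, hkinv]
    refine and_congr_right fun _ => ⟨fun h => ?_, fun h => ?_⟩
    · rw [h, ← pow_mul, show 2 * 2 = 3 + 1 by norm_num, pow_succ, hω3, one_mul]
    · have h' := congrArg (· ^ 2) h
      simp only [← pow_mul] at h'
      rw [show 2 * 2 = 3 + 1 by norm_num, pow_succ, hlamQ3, one_mul] at h'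
      exact h'
  refine ⟨{
    lam := lamQ.comp π
    h := h
    ω := ω
    m := m
    m_pos := Nat.card_pos
    card_eq := by rw [Subgroup.card_eq_card_quotient_mul_card_subgroup O, hQ]
    ω_ne := hω1
    ω_pow := hω3
    h_reg := hreg
    lam_h := rfl
    lam_reg := fun y => hcases (π y)
    lam_invol := fun u hu => by
      have h2 : lamQ (π u) ^ 2 = 1 := by rw [sq, ← map_mul, ← map_mul, hu, map_one, map_one]
      have h3 := hlamQ3 (π u)
      rw [pow_succ, h2, one_mul] at h3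
      exact h3
    lam_core := fun v hv => by
      rw [MonoidHom.comp_apply, show π v = 1 from (QuotientGroup.eq_one_iff v).mpr hv, map_one]
    fibre := fun k => ?_
    conj := fun y hy k hk => ?_ }⟩
  · rw [show Nat.card {y : C // ¬ 2 ∣ orderOf y ∧ (lamQ.comp π) y = ω ^ (k : ℕ)} = _ from hfib k]
    fin_cases k
    · simp [hc0]
    · show m * Nat.card {y : ↥C ⧸ O // y ^ 3 = 1 ∧ lamQ y = ω ^ 1} = _
      rw [if_neg (by decide), show Nat.card {y : ↥C ⧸ O // y ^ 3 = 1 ∧ lamQ y = ω ^ 1} = Nat.card X by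
        simp only [pow_one]; rfl, hXsyl, hn3, mul_comm]
    · show m * Nat.card {y : ↥C ⧸ O // y ^ 3 = 1 ∧ lamQ y = ω ^ 2} = _
      rw [if_neg (by decide), hc2, mul_comm]
  · have hy3 := (hregiff y).mp hy
    have hk' : lamQ (π y) = ω ^ (k : ℕ) := hk
    have hconjx : ∃ g, π y = g * x ^ (k : ℕ) * g⁻¹ := by
      fin_cases k
      · exact ⟨1, by simpa using hT3 _ hy3 ((hlamQ1 _).mp (by simpa using hk'))⟩
      · obtain ⟨g, hg⟩ := hXconj ⟨π y, hy3, by simpa using hk'⟩
        exact ⟨g, by simpa using hg⟩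
      · obtain ⟨g, hg⟩ := hXconj ⟨(π y)⁻¹, by rw [inv_pow, hy3, inv_one], by
          rw [hkinv, hk', ← pow_mul]
          show ω ^ (2 * 2) = ω
          rw [show 2 * 2 = 3 + 1 by norm_num, pow_succ, hω3, one_mul]⟩
        refine ⟨g, ?_⟩
        show π y = g * x ^ 2 * g⁻¹
        rw [show x ^ 2 = x⁻¹ by
          rw [eq_inv_iff_mul_eq_one, ← pow_succ]; exact orderOf_dvd_iff_pow_eq_one.mp (by rw [hxord])]
        have := congrArg (·⁻¹) hg
        simp only [inv_inv] at this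
        rw [this]
        group
    obtain ⟨g, hg⟩ := hconjx
    obtain ⟨g', rfl⟩ := hsurj g
    refine ⟨g', (g' * h ^ (k : ℕ) * g'⁻¹)⁻¹ * y, ?_, by group⟩
    refine (QuotientGroup.eq_one_iff _).mp (show π _ = 1 from ?_)
    rw [map_mul, map_inv, map_mul, map_mul, map_inv, map_pow, hg, inv_mul_cancel]

end CfsgLib.EightSylow
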